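import Mathlib
import Cfsg.Agent.E83.Kac
import Cfsg.Agent.FV.Defs3

/-!
# Small subgroups of `E₈(3)` with a fixed vector on the adjoint module: definitions
-/

set_option autoImplicit false

namespace Cfsg.Agent.E84

open Module Matrix Cfsg.Agent.E83

/-- every copy of `X` in `E₈(3)` fixes a vector of the adjoint module -/
def HasFix (X : Type*) [Group X] : Prop :=
  ∀ φ : X →* St, Function.Injective φ → ∃ v : LL, v ≠ 0 ∧ ∀ x, rho (φ x) v = v

/-- abelian `3'`-subgroups are small -/
def SmallAb (X : Type*) [Group X] : Prop :=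
  ∀ B : Subgroup X, IsMulCommutative B → ¬ 3 ∣ Nat.card B → Nat.card B < 128

/-- trivial centre, outer automorphism group of order dividing `6` -/
def Out6 (X : Type*) [Group X] : Prop :=
  Subgroup.center X = ⊥ ∧ Nat.card (MulAut X) ∣ 6 * Nat.card X

/-- `SL₂(13)` -/
abbrev S13 : Type := SpecialLinearGroup (Fin 2) (ZMod 13)

/-- order `13` -/
def u13 : S13 := ⟨!![1, 1; 0, 1], by rw [det_fin_two_of]; decide⟩
/-- the Weyl element -/
def s13 : S13 := ⟨!![0, 1; 12, 0], by rw [det_fin_two_of]; decide⟩
/-- square `-1`, inverts `u13` -/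
def z13 : S13 := ⟨!![5, 0; 0, 8], by rw [det_fin_two_of]; decide⟩
/-- order `3` -/
def h13 : S13 := ⟨!![3, 0; 0, 9], by rw [det_fin_two_of]; decide⟩
/-- order `7` -/
def w13 : S13 := ⟨!![12, 8; 2, 9], by rw [det_fin_two_of]; decide⟩

variable {K V : Type*} [Field K] [AddCommGroup V] [Module K V] (ρ : S13 →* End K V)

/-- the norm map of `⟨u⟩` -/
noncomputable def nU : End K V := ∑ i ∈ Finset.range 13, ρ u13 ^ i

/-- the normalised Hecke operator -/
noncomputable def sH : End K V := nU ρ * ρ s13 + (1 + ρ h13 + ρ h13 ^ 2)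

/-- the vectors fixed by `u` and `z` -/
def wW : Submodule K V := fx (ρ u13) ⊓ fx (ρ z13)

/-- the part of `wW` belonging to the trivial composition factors -/
noncomputable def wP : Submodule K V := wW ρ ⊓ fx (sH ρ)

/-- the projection onto `wP` in characteristic `3` -/
noncomputable def pP : End K V := (1 + sH ρ) * (1 + ρ z13) * nU ρ

end Cfsg.Agent.E84
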