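import Mathlib
import Cfsg.Agent.E84.Defs
import Cfsg.Agent.Spor.FL.Ext
import Cfsg.Agent.S0814
import Cfsg.Agent.S2126
import Cfsg.Agent.S2602
import Cfsg.Agent.Cl.LinearBasic

/-! Centres and automorphism groups -/

set_option autoImplicit false

namespace Cfsg.Agent.E84

open Subgroup

theorem aut_dvd {X : Type*} [Group X] {n : ℕ} (h : Nat.card (Cfsg.Out X) = n) (hn : n ∣ 6) :
    Nat.card (MulAut X) ∣ 6 * Nat.card X := by
  rw [← (Cfsg.Inn X).index_mul_card]
  exact Nat.mul_dvd_mul ((show (Cfsg.Inn X).index = n from h).symm ▸ hn) (card_range_dvd MulAut.conj)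

theorem center_congr {X Y : Type*} [Group X] [Group Y] (e : X ≃* Y) (h : center X = ⊥) : center Y = ⊥ := by
  refine eq_bot_iff.2 fun g hg => ?_
  have h2 : e.symm g ∈ center X := mem_center_iff.2 fun x => e.injective (by
    rw [map_mul, map_mul, e.apply_symm_apply, mem_center_iff.1 hg])
  rw [h, mem_bot] at h2
  simpa using h2

theorem out6_sz {F : Type*} [Field F] [Fintype F] (h : Fintype.card F = 8) : Out6 (Cfsg.Lie.Sz F 4) := by
  have h' : Fintype.card F = 2 ^ (2 * 1 + 1) := h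
  have := Chev.Sz.SzF.of_card le_rfl h'
  have key : Out6 (Cfsg.Lie.Sz F (2 ^ (1 + 1))) :=
    ⟨center_congr (Chev.Sz.szEquiv F 1) Chev.Sz.center_Sz, aut_dvd (S2126.result le_rfl h') (by norm_num)⟩
  rwa [show 2 ^ (1 + 1) = 4 from rfl] at key

theorem out6_o8 : Out6 (Cfsg.Omega (ZMod 2) (Cfsg.quadFormPlus 4 (ZMod 2))) := by
  refine ⟨?_, by rw [Spor.FL.card_aut_o8, Spor.FL.card_o8]⟩
  have := Spor.FL.center_omega_two (Cl.quad_plus_nondeg (m := 4) (F := ZMod 2)) (by simp)
  rwa [Cl.coe_quad_plus] at this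

theorem l13_facts : IsSimpleGroup (Matrix.ProjectiveSpecialLinearGroup (Fin 2) (ZMod 13)) ∧
    Nat.card (Matrix.ProjectiveSpecialLinearGroup (Fin 2) (ZMod 13)) = 1092 := by
  haveI : Fact (Nat.Prime 13) := ⟨by norm_num⟩
  refine ⟨Cl.psl_fin_isSimpleGroup (F := ZMod 13) le_rfl fun _ => by rw [Nat.card_zmod]; norm_num, ?_⟩
  have := Cl.card_psl_two_mul (F := ZMod 13)
  rw [Nat.card_zmod, show Nat.gcd 2 (13 - 1) = 2 from rfl] at this
  exact Nat.eq_of_mul_eq_mul_left two_pos this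

theorem out6_l13 : Out6 (Matrix.ProjectiveSpecialLinearGroup (Fin 2) (ZMod 13)) := by
  haveI : Fact (Nat.Prime 13) := ⟨by norm_num⟩
  obtain ⟨hs, hc⟩ := l13_facts
  refine ⟨(inferInstance : (center _).Normal).eq_bot_or_eq_top.resolve_right fun e => ?_, ?_⟩
  · have : IsMulCommutative (Matrix.ProjectiveSpecialLinearGroup (Fin 2) (ZMod 13)) :=
      ⟨⟨fun a b => mem_center_iff.1 (e ▸ mem_top b) a⟩⟩
    have hp := Group.is_simple_iff_prime_card.1 hs
    rw [hc] at hp
    norm_num at hp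
  · obtain ⟨φ, -, -, h⟩ := S2602.result (F := ZMod 13) (p := 13) (f := 1) le_rfl (by rw [ZMod.card]; norm_num)
      (by norm_num)
    have : φ.ker = ⊤ := eq_top_iff.2 fun x _ => Subsingleton.elim _ _
    rw [this, card_top] at h
    exact aut_dvd h (by norm_num)

theorem out6_sp : Out6 (Matrix.symplecticGroup (Fin 3) (ZMod 2)) := by
  obtain ⟨h1, h2⟩ := Spor.FL.card_psp62
  have hc : center (Matrix.symplecticGroup (Fin 3) (ZMod 2)) = ⊥ := by
    have := card_eq_card_quotient_mul_card_subgroup (center (Matrix.symplecticGroup (Fin 3) (ZMod 2)))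
    rw [h1, h2] at this
    exact eq_bot_of_card_eq _ (by omega)
  refine ⟨hc, ?_⟩
  have e : Cfsg.PSp 3 (ZMod 2) ≃* Matrix.symplecticGroup (Fin 3) (ZMod 2) :=
    (QuotientGroup.quotientMulEquivOfEq hc).trans QuotientGroup.quotientBot
  have h := S0814.result (F := ZMod 2) 2 1 le_rfl (by rw [ZMod.card]; norm_num) 3 (by norm_num) (by norm_num)
  rw [← Nat.card_congr (MulAut.congr e).toEquiv, h, h1, h2]
  norm_num

theorem smallAb_l13 : SmallAb (Matrix.ProjectiveSpecialLinearGroup (Fin 2) (ZMod 13)) := by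
  obtain ⟨hs, hc⟩ := l13_facts
  intro B _ h3
  by_contra hB
  have hi := B.index_mul_card
  rw [hc] at hi
  have h8 : B.index ≤ 8 := by nlinarith
  have hk : B.normalCore = ⊥ := (inferInstance : B.normalCore.Normal).eq_bot_or_eq_top.resolve_right fun e => by
    have : B = ⊤ := top_le_iff.1 (e ▸ B.normalCore_le)
    rw [this, card_top, hc] at h3
    norm_num at h3
  rw [normalCore_eq_ker, MonoidHom.ker_eq_bot_iff] at hk
  have : Finite (Matrix.ProjectiveSpecialLinearGroup (Fin 2) (ZMod 13)) := Nat.finite_of_card_ne_zero (by omega)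
  have h1 := card_dvd_of_injective _ hk
  rw [hc, Nat.card_perm, ← index_eq_card] at h1
  have h2 := (h1.trans (Nat.factorial_dvd_factorial h8))
  norm_num [Nat.factorial] at h2

end Cfsg.Agent.E84
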