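import Mathlib
import Cfsg.Agent.E84.Defs
import Cfsg.Agent.FV.Seitz
import Cfsg.Agent.FV.Form
import Cfsg.Agent.GT.FStar
import Cfsg.Agent.Chev.StFin

/-! The reduction to a fixed vector (see stubs/Cfsg/Agent/E84/PLAN.md) -/

set_option autoImplicit false

namespace Cfsg.Agent.E84

open Subgroup

namespace Core

theorem idx {H : Type*} [Group H] [Finite H] {X : Type*} [Group X] (ho : Out6 X)
    (e : Cfsg.generalizedFittingSubgroup H ≃* X) : (Cfsg.generalizedFittingSubgroup H).index ∣ 6 := by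
  haveI := GT.genFitting_normal (G := H)
  have inj : Function.Injective
      (MulAut.conjNormal : H →* MulAut (Cfsg.generalizedFittingSubgroup H)) := by
    refine (injective_iff_map_eq_one _).2 fun g hg => ?_
    have c : ∀ k : Cfsg.generalizedFittingSubgroup H, g * k * g⁻¹ = k := fun k =>
      congrArg Subtype.val (DFunLike.congr_fun hg k)
    have m : g ∈ Cfsg.generalizedFittingSubgroup H := GT.centralizer_genFitting_le
      (mem_centralizer_iff.2 fun k hk => (mul_inv_eq_iff_eq_mul.1 (c ⟨k, hk⟩)).symm)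
    have z : e ⟨g, m⟩ ∈ center X := mem_center_iff.2 fun x => by
      obtain ⟨k, rfl⟩ := e.surjective x
      rw [← map_mul, ← map_mul]
      exact congrArg e (Subtype.ext (mul_inv_eq_iff_eq_mul.1 (c k)).symm)
    rw [ho.1, mem_bot, map_eq_one_iff _ e.injective] at z
    exact congrArg Subtype.val z
  have d := card_dvd_of_injective _ inj
  rw [Nat.card_congr (MulAut.congr e).toEquiv] at d
  have d' := d.trans ho.2
  rw [← Nat.card_congr e.toEquiv, ← (Cfsg.generalizedFittingSubgroup H).index_mul_card] at d'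
  exact Nat.dvd_of_mul_dvd_mul_right Nat.card_pos d'

theorem line {H V : Type*} [Group H] [Finite H] [AddCommGroup V] [Finite V] [DistribMulAction H V]
    (h3 : ∀ v : V, 3 • v = 0) {K : Subgroup H} [K.Normal] (hi : K.index ∣ 6) {w : V} (w0 : w ≠ 0)
    (hw : ∀ k ∈ K, k • w = w) : ∃ v : V, v ≠ 0 ∧ ∀ h : H, h • v = v ∨ h • v = -v := by
  haveI : Fact (Nat.Prime 3) := ⟨Nat.prime_three⟩
  have mv : ∀ {N : Subgroup H} [N.Normal] {v : V}, (∀ k ∈ N, k • v = v) →
      ∀ t : H, ∀ k ∈ N, k • t • v = t • v := fun {N} hN v hv t k hk => by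
    have := hv _ (hN.conj_mem k hk t⁻¹)
    rw [inv_inv, mul_smul, mul_smul, inv_smul_eq_iff] at this
    exact this
  let W' : AddSubgroup V :=
    { carrier := {v | ∀ k ∈ K, k • v = v}
      zero_mem' := fun k _ => smul_zero k
      add_mem' := fun ha hb k hk => by rw [smul_add, ha k hk, hb k hk]
      neg_mem' := fun ha k hk => by rw [smul_neg, ha k hk] }
  let W : SubMulAction H V := ⟨W', fun t _ hv => mv hv t⟩
  obtain ⟨P⟩ : Nonempty (Sylow 3 H) := inferInstance
  have d : 3 ∣ Nat.card W := by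
    rw [← addOrderOf_eq_prime (h3 w) w0]
    exact AddSubgroup.addOrderOf_dvd_natCard W' hw
  obtain ⟨v, hv, v0⟩ := P.isPGroup'.exists_fixed_point_of_prime_dvd_card_of_fixed_point W d
    (a := ⟨0, W'.zero_mem⟩) fun p => Subtype.ext (smul_zero _)
  have v0' : (v : V) ≠ 0 := fun e => v0 (Subtype.ext e.symm)
  have hN : K ⊔ P ≤ MulAction.stabilizer H (v : V) :=
    sup_le v.2 fun p hp => congrArg Subtype.val (hv ⟨p, hp⟩)
  have i1 : (K ⊔ (P : Subgroup H)).index ∣ 6 := (index_dvd_of_le le_sup_left).trans hi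
  have i2 : ¬ 3 ∣ (K ⊔ (P : Subgroup H)).index := fun c =>
    P.not_dvd_index (c.trans (index_dvd_of_le le_sup_right))
  generalize K ⊔ (P : Subgroup H) = N at hN i1 i2
  have i3 : N.index = 1 ∨ N.index = 2 := by
    have := Nat.le_of_dvd (by norm_num) i1
    generalize N.index = m at *
    interval_cases m <;> simp_all
  rcases i3 with i3 | i3
  · exact ⟨v, v0', fun h => .inl (hN (index_eq_one.1 i3 ▸ mem_top h))⟩
  haveI := normal_of_index_eq_two i3
  by_cases c : ∀ t : H, t • (v : V) = v
  · exact ⟨v, v0', fun h => .inl (c h)⟩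
  obtain ⟨t, ht⟩ := not_forall.1 c
  have tN : t ∉ N := fun l => ht (hN l)
  refine ⟨v - t • (v : V), sub_ne_zero.2 (Ne.symm ht), fun h => ?_⟩
  by_cases l : h ∈ N
  · exact .inl (by rw [smul_sub, hN l, mv (fun k hk => hN hk) t h l])
  · have a : h * t ∈ N := (mul_mem_iff_of_index_two i3).2 (iff_of_false l tN)
    have b : t⁻¹ * h ∈ N :=
      (mul_mem_iff_of_index_two i3).2 (iff_of_false (fun m => tN (inv_mem_iff.1 m)) l)
    have b' : h • (v : V) = t • (v : V) := by
      have : (t⁻¹ * h) • (v : V) = v := hN b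
      rwa [mul_smul, inv_smul_eq_iff] at this
    exact .inr (by rw [smul_sub, ← mul_smul, hN a, b', neg_sub])

theorem small {H : Type*} [Group H] [Finite H] {X : Type*} [Group X] (hs : SmallAb X)
    {K : Subgroup H} [K.Normal] (hi : K.index ∣ 6) (e : K ≃* X) {A : Subgroup H}
    (hA : IsMulCommutative A) (h3 : ¬ 3 ∣ Nat.card A) : Nat.card A < 256 := by
  have c1 := (K.subgroupOf A).card_mul_index
  have d1 : (K.subgroupOf A).index ∣ 6 := (relIndex_dvd_index_of_normal K A).trans hi
  have d2 : ¬ 3 ∣ (K.subgroupOf A).index := fun c => h3 (c.trans (index_dvd_card _))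
  have d3 : (K.subgroupOf A).index ≤ 2 := by
    have := Nat.le_of_dvd (by norm_num) d1
    generalize (K.subgroupOf A).index = m at d1 d2 this
    interval_cases m <;> first | omega | simp_all
  have c2 : Nat.card ((A.subgroupOf K).map e.toMonoidHom) = Nat.card (K.subgroupOf A) := by
    rw [card_map_of_injective e.injective, ← card_map_of_injective K.subtype_injective,
      ← card_map_of_injective A.subtype_injective, subgroupOf_map_subtype, subgroupOf_map_subtype,
      inf_comm]
  have := hs ((A.subgroupOf K).map e.toMonoidHom) inferInstance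
    (by rw [c2]; exact fun c => h3 (c.trans (card_subgroup_dvd_card _)))
  rw [c2] at this
  nlinarith

end Core

open Cfsg.Lie Cfsg.Lie.ChevalleyDatum Cfsg.Agent.Chev Cfsg.Agent.E83 Matrix in
theorem core {X : Type*} [Group X] (ho : Out6 X) (hf : HasFix X) (hs : SmallAb X) (H : Subgroup FV.G0)
    (e : Cfsg.generalizedFittingSubgroup H ≃* X) : ¬ IsCoatom H := by
  intro hH
  haveI : Finite FV.G0 := chevE8.finite_group (ZMod 3)
  haveI := GT.genFitting_normal (G := H)
  have hi := Core.idx ho e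
  let e' := MulEquiv.ofBijective (chevE8.stProj (ZMod 3))
    ⟨(MonoidHom.ker_eq_bot_iff _).1 (by rw [ker_stProj, center_stE8]), chevE8.stProj_surjective _⟩
  let φ : X →* St := e'.symm.toMonoidHom.comp
    (H.subtype.comp ((Cfsg.generalizedFittingSubgroup H).subtype.comp e.symm.toMonoidHom))
  obtain ⟨v, v0, hv⟩ := hf φ (e'.symm.injective.comp (H.subtype_injective.comp
    ((Cfsg.generalizedFittingSubgroup H).subtype_injective.comp e.symm.injective)))
  obtain ⟨w, w0, hw⟩ := FV.descend (S := Set.range φ) (fun _ => 1) v0 (by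
    rintro _ ⟨x, rfl⟩
    rw [hv, map_one, one_smul])
  letI : DistribMulAction H (chevE8.Idx → ZMod 3) := DistribMulAction.compHom _
    (toLinAlgEquiv'.toMonoidHom.comp ((Units.coeHom _).comp
      ((chevE8.group (ZMod 3)).subtype.comp H.subtype)) :
        H →* Module.End (ZMod 3) (chevE8.Idx → ZMod 3))
  have sm : ∀ (h : H) (u : chevE8.Idx → ZMod 3), h • u = h.val.val.val *ᵥ u := fun h u =>
    toLinAlgEquiv'_apply h.val.val.val u
  obtain ⟨u, u0, hu⟩ := Core.line (V := chevE8.Idx → ZMod 3)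
    (fun u => by rw [← Nat.cast_smul_eq_nsmul (ZMod 3), show ((3 : ℕ) : ZMod 3) = 0 from rfl, zero_smul])
    hi w0 fun k hk => by
      have := hw _ ⟨e ⟨k, hk⟩, rfl⟩
      rw [one_smul, show chevE8.stProj (ZMod 3) (φ (e ⟨k, hk⟩)) = k from
        (e'.apply_symm_apply _).trans (by simp)] at this
      rw [sm, this]
  obtain ⟨A, a1, a2, a3, a4⟩ := FV.seitz hH u0 fun h hh => (hu ⟨h, hh⟩).elim
    (fun l => ⟨1, by rw [one_smul]; exact (sm ⟨h, hh⟩ u).symm.trans l⟩)
    fun l => ⟨-1, by rw [neg_one_smul]; exact (sm ⟨h, hh⟩ u).symm.trans l⟩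
  have c := Nat.card_congr (subgroupOfEquivOfLe a1).toEquiv
  have := Core.small hs hi e (A := A.subgroupOf H) inferInstance (c ▸ a3)
  omega

end Cfsg.Agent.E84
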