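import Mathlib
import Cfsg.Agent.E84.Defs
import Cfsg.Agent.GT.QuadSL2

/-! The Hecke operator of `SL₂(13)` in characteristic `3` -/

set_option autoImplicit false

namespace Cfsg.Agent.E84

open Module Cfsg.Agent.E83

variable {K V : Type*} [Field K] [CharP K 3] [AddCommGroup V] [Module K V] {ρ : S13 →* End K V}

namespace LHx

/-- exponents of `u` -/
def ta (i : ℕ) : ℕ := [12, 6, 4, 3, 5, 2, 11, 8, 10, 9, 7, 1].getD i 0
/-- exponents of `z` -/
def tj (i : ℕ) : ℕ := [2, 3, 2, 0, 3, 3, 1, 1, 2, 0, 1, 0].getD i 0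
/-- exponents of `h` -/
def tk (i : ℕ) : ℕ := [0, 1, 1, 2, 0, 2, 2, 0, 2, 1, 1, 0].getD i 0

theorem tab : ∀ i < 12, s13 * u13 ^ (i + 1) * s13 = u13 ^ ta i * s13 * (z13 ^ tj i * h13 ^ tk i) * u13 ^ ta i := by
  decide +kernel

theorem rel : u13 ^ 13 = 1 ∧ s13 * s13 = -1 ∧ z13 * z13 = -1 ∧ h13 * h13 * h13 = 1 ∧ z13 * h13 = h13 * z13 ∧
    z13 * u13 = u13 ^ 12 * z13 ∧ h13 * u13 = u13 ^ 9 * h13 ∧ s13 * z13 = -1 * (z13 * s13) ∧
    s13 * h13 = h13 * h13 * s13 ∧ u13 * h13 = h13 * u13 ^ 3 ∧ z13 * u13 ^ 12 = u13 * z13 := by decide +kernel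

theorem up_lo : (∀ t : ZMod 13, GT.slUp t = u13 ^ t.val) ∧
    ∀ t : ZMod 13, GT.slLo t = s13 * u13 ^ (-t).val * (s13 * s13 * s13) := by decide +kernel

theorem sum_ta {M : Type*} [AddCommMonoid M] (g : ℕ → M) :
    ∑ i ∈ Finset.range 12, g (ta i) + g 0 = ∑ i ∈ Finset.range 13, g i := by
  simp only [Finset.sum_range_succ, Finset.sum_range_zero, ta, List.getD_cons_succ, List.getD_cons_zero]
  abel

theorem sum_tk {M : Type*} [AddCommMonoid M] (g : ℕ → M) :
    ∑ i ∈ Finset.range 12, g (tk i) = 4 • (g 0 + g 1 + g 2) := by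
  simp only [Finset.sum_range_succ, Finset.sum_range_zero, tk, List.getD_cons_succ, List.getD_cons_zero]
  abel

theorem sum_mod {M : Type*} [AddCommMonoid M] (g : ℕ → M) {c : ℕ} (hc : c = 12 ∨ c = 9) :
    ∑ i ∈ Finset.range 13, g (c * i % 13) = ∑ i ∈ Finset.range 13, g i := by
  rcases hc with rfl | rfl <;> simp only [Finset.sum_range_succ, Finset.sum_range_zero, Nat.reduceMul, Nat.reduceMod] <;>
    abel

section

omit [CharP K 3]

theorem u_pow : ρ u13 ^ 13 = 1 := by rw [← map_pow, rel.1, map_one]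
theorem ss (h : ρ (-1) = 1) (v : V) : ρ s13 (ρ s13 v) = v := by
  rw [← End.mul_apply, ← map_mul, rel.2.1, h, End.one_apply]
theorem zz (h : ρ (-1) = 1) (v : V) : ρ z13 (ρ z13 v) = v := by
  rw [← End.mul_apply, ← map_mul, rel.2.2.1, h, End.one_apply]
theorem hhh (v : V) : ρ h13 (ρ h13 (ρ h13 v)) = v := by
  rw [← End.mul_apply, ← End.mul_apply, ← map_mul, ← map_mul, rel.2.2.2.1, map_one, End.one_apply]
theorem zh (v : V) : ρ z13 (ρ h13 v) = ρ h13 (ρ z13 v) := by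
  rw [← End.mul_apply, ← map_mul, rel.2.2.2.2.1, map_mul, End.mul_apply]
theorem sz (h : ρ (-1) = 1) (v : V) : ρ s13 (ρ z13 v) = ρ z13 (ρ s13 v) := by
  rw [← End.mul_apply, ← map_mul, rel.2.2.2.2.2.2.2.1, map_mul, h, one_mul, map_mul, End.mul_apply]
theorem sh (v : V) : ρ s13 (ρ h13 v) = ρ h13 (ρ h13 (ρ s13 v)) := by
  rw [← End.mul_apply, ← map_mul, rel.2.2.2.2.2.2.2.2.1, map_mul, map_mul, End.mul_apply, End.mul_apply]

theorem pow_fix {f : End K V} {v : V} (e : f v = v) (n : ℕ) : (f ^ n) v = v := by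
  rw [End.pow_apply]
  exact Function.iterate_fixed e n

theorem uN (v : V) : ρ u13 (nU ρ v) = nU ρ v := by
  have := mul_geom_sum (ρ u13) 13
  rw [u_pow, sub_self, sub_mul, one_mul, sub_eq_zero] at this
  exact DFunLike.congr_fun this v

theorem Nu (v : V) : nU ρ (ρ u13 v) = nU ρ v := by
  have := geom_sum_mul (ρ u13) 13
  rw [u_pow, sub_self, mul_sub, mul_one, sub_eq_zero] at this
  exact DFunLike.congr_fun this v

theorem Nup (n : ℕ) (v : V) : nU ρ ((ρ u13 ^ n) v) = nU ρ v := by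
  induction n with
  | zero => rfl
  | succ n ih => rw [pow_succ', End.mul_apply, Nu, ih]

theorem comm_N {x : End K V} {c : ℕ} (hc : c = 12 ∨ c = 9) (e : x * ρ u13 = ρ u13 ^ c * x) (v : V) :
    x (nU ρ v) = nU ρ (x v) := by
  have : x * nU ρ = nU ρ * x := by
    conv_rhs => rw [nU, ← sum_mod _ hc]
    rw [nU, Finset.mul_sum, Finset.sum_mul]
    refine Finset.sum_congr rfl fun i _ => ?_
    rw [← pow_eq_pow_mod _ u_pow, pow_mul]
    exact SemiconjBy.pow_right e i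
  exact DFunLike.congr_fun this v

theorem zN (v : V) : ρ z13 (nU ρ v) = nU ρ (ρ z13 v) :=
  comm_N (.inl rfl) (by rw [← map_pow, ← map_mul, ← map_mul, rel.2.2.2.2.2.1]) v

theorem hN (v : V) : ρ h13 (nU ρ v) = nU ρ (ρ h13 v) :=
  comm_N (.inr rfl) (by rw [← map_pow, ← map_mul, ← map_mul, rel.2.2.2.2.2.2.1]) v

theorem mem_W {v : V} : v ∈ wW ρ ↔ ρ u13 v = v ∧ ρ z13 v = v := and_congr mem_fx mem_fx

theorem mem_P {v : V} : v ∈ wP ρ ↔ v ∈ wW ρ ∧ sH ρ v = v := and_congr_right fun _ => mem_fx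

theorem hW {v : V} (hv : v ∈ wW ρ) : ρ h13 v ∈ wW ρ := mem_W.2 ⟨by
  rw [← End.mul_apply, ← map_mul, rel.2.2.2.2.2.2.2.2.2.1, map_mul, map_pow, End.mul_apply, pow_fix (mem_W.1 hv).1],
  by rw [zh, (mem_W.1 hv).2]⟩

theorem NW {v : V} (hv : ρ z13 v = v) : nU ρ v ∈ wW ρ := mem_W.2 ⟨uN v, by rw [zN, hv]⟩

theorem EW (h : ρ (-1) = 1) (v : V) : nU ρ v + ρ z13 (nU ρ v) ∈ wW ρ := by
  rw [zN, ← map_add]
  exact NW (by rw [map_add, zz h, add_comm])

theorem sH_apply (v : V) : sH ρ v = nU ρ (ρ s13 v) + (v + ρ h13 v + ρ h13 (ρ h13 v)) := by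
  simp [sH, pow_two]

theorem pP_apply (v : V) : pP ρ v = nU ρ v + ρ z13 (nU ρ v) + sH ρ (nU ρ v + ρ z13 (nU ρ v)) := by
  simp [pP]

theorem sHW (h : ρ (-1) = 1) {v : V} (hv : v ∈ wW ρ) : sH ρ v ∈ wW ρ := by
  rw [sH_apply]
  exact add_mem (NW (by rw [← sz h, (mem_W.1 hv).2])) (add_mem (add_mem hv (hW hv)) (hW (hW hv)))

theorem sNs (h : ρ (-1) = 1) (v : V) : ρ s13 (nU ρ (ρ s13 v)) = ∑ i ∈ Finset.range 12,
    (ρ u13 ^ ta i) (ρ s13 ((ρ z13 ^ tj i) ((ρ h13 ^ tk i) ((ρ u13 ^ ta i) v)))) + v := by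
  rw [nU, Finset.sum_range_succ', LinearMap.add_apply, LinearMap.sum_apply, map_add, map_sum, pow_zero, End.one_apply,
    ss h]
  refine congrArg (· + v) (Finset.sum_congr rfl fun i hi => ?_)
  have := congrArg ρ (tab i (Finset.mem_range.1 hi))
  simp only [map_mul, map_pow] at this
  exact DFunLike.congr_fun this v

theorem sNsW (h : ρ (-1) = 1) {v : V} (hv : v ∈ wW ρ) : ρ s13 (nU ρ (ρ s13 v)) = ∑ i ∈ Finset.range 12,
    (ρ u13 ^ ta i) (ρ s13 ((ρ h13 ^ tk i) v)) + v := by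
  have k : ∀ n, (ρ h13 ^ n) v ∈ wW ρ := fun n => by
    induction n with
    | zero => exact hv
    | succ n ih => rw [pow_succ', End.mul_apply]; exact hW ih
  rw [sNs h]
  exact congrArg (· + v) (Finset.sum_congr rfl fun i _ => by rw [pow_fix (mem_W.1 hv).1, pow_fix (mem_W.1 (k _)).2])

theorem fin_eq [FiniteDimensional K V] (U : Submodule K V) (f : End K V) :
    finrank K U = finrank K ↥(U ⊓ LinearMap.ker f) + finrank K (U.map f) := by
  have h1 := (f.domRestrict U).finrank_range_add_finrank_ker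
  have h3 := Submodule.finrank_map_subtype_eq U (LinearMap.ker (f.domRestrict U))
  rw [LinearMap.ker_domRestrict, Submodule.map_comap_subtype, ← LinearMap.ker_domRestrict] at h3
  rw [LinearMap.range_domRestrict] at h1
  omega

end

include K in
theorem three (v : V) : v + v + v = 0 := by
  rw [show v + v + v = ((3 : ℕ) : K) • v by push_cast; module, CharP.cast_eq_zero, zero_smul]

theorem ne2 : (2 : K) ≠ 0 := fun e => by
  have := (CharP.cast_eq_zero_iff K 3 2).1 (by exact_mod_cast e)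
  omega

include K in
theorem half {v w : V} (e : v + v = w + w) : v = w :=
  smul_right_injective V (ne2 (K := K)) (by simpa only [two_smul] using e)

theorem N_fix {v : V} (e : ρ u13 v = v) : nU ρ v = v := by
  rw [nU, LinearMap.sum_apply, Finset.sum_congr rfl fun i _ => pow_fix e i, Finset.sum_const, Finset.card_range]
  linear_combination (norm := abel) 4 • three (K := K) v

theorem sHsH (h : ρ (-1) = 1) {v : V} (hv : v ∈ wW ρ) : sH ρ (sH ρ v) = v := by
  have h1 := congrArg (nU ρ) (sNsW h hv)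
  rw [map_add, map_sum, N_fix (mem_W.1 hv).1, Finset.sum_congr rfl fun i _ => Nup _ _,
    sum_tk fun k => nU ρ (ρ s13 ((ρ h13 ^ k) v))] at h1
  simp only [sH_apply, map_add, h1, pow_zero, pow_one, pow_two, End.one_apply, End.mul_apply, sh, hhh, hN]
  linear_combination (norm := abel)
    2 • three (K := K) (nU ρ (ρ s13 v) + nU ρ (ρ h13 (ρ s13 v)) + nU ρ (ρ h13 (ρ h13 (ρ s13 v)))) +
      three (K := K) (v + ρ h13 v + ρ h13 (ρ h13 v))

/-- `h - h²` -/
noncomputable def yy (ρ : S13 →* End K V) : End K V := ρ h13 - ρ h13 * ρ h13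

omit [CharP K 3] in
theorem yy_apply (v : V) : yy ρ v = ρ h13 v - ρ h13 (ρ h13 v) := rfl

omit [CharP K 3] in
theorem yW {v : V} (hv : v ∈ wW ρ) : yy ρ v ∈ wW ρ := sub_mem (hW hv) (hW (hW hv))

omit [CharP K 3] in
theorem sHy (v : V) : sH ρ (yy ρ v) = -yy ρ (sH ρ v) := by
  simp only [sH_apply, yy_apply, map_add, map_sub, sh, hhh, hN]
  abel

theorem yyy (v : V) : yy ρ (yy ρ (yy ρ v)) = 0 := by
  simp only [yy_apply, map_sub, hhh]
  linear_combination (norm := abel) three (K := K) (ρ h13 (ρ h13 v) - ρ h13 v)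

end LHx

open LHx

theorem gen13 : Subgroup.closure {u13, s13} = ⊤ := by
  have : Fact (Nat.Prime 13) := ⟨by decide⟩
  have hu : u13 ∈ Subgroup.closure {u13, s13} := Subgroup.subset_closure (by simp)
  have hs : s13 ∈ Subgroup.closure {u13, s13} := Subgroup.subset_closure (by simp)
  refine GT.eq_top_of_slUp_slLo_mem (K := ZMod 13) _ (fun t => ?_) fun t => ?_
  · rw [up_lo.1 t]
    exact pow_mem hu _
  · rw [up_lo.2 t]
    exact mul_mem (mul_mem hs (pow_mem hu _)) (mul_mem (mul_mem hs hs) hs)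

theorem sus (h : ρ (-1) = 1) {i : ℕ} (hi : i < 13) (h0 : i ≠ 0) : ∃ a j k : ℕ,
    ρ s13 * ρ u13 ^ i * ρ s13 = ρ u13 ^ a * ρ s13 * (ρ z13 ^ j * ρ h13 ^ k) * ρ u13 ^ a := by
  obtain ⟨i, rfl⟩ := Nat.exists_eq_succ_of_ne_zero h0
  exact ⟨_, _, _, by simpa only [map_mul, map_pow] using congrArg ρ (tab i (by omega))⟩

theorem pP_mem (h : ρ (-1) = 1) (v : V) : pP ρ v ∈ wP ρ := by
  rw [pP_apply]
  exact mem_P.2 ⟨add_mem (EW h v) (sHW h (EW h v)), by rw [map_add, sHsH h (EW h v), add_comm]⟩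

theorem pP_eq {v : V} (hv : v ∈ wP ρ) : pP ρ v = v := by
  obtain ⟨h1, h2⟩ := mem_P.1 hv
  rw [pP_apply, N_fix (mem_W.1 h1).1, (mem_W.1 h1).2, map_add, h2]
  linear_combination (norm := abel) three (K := K) v

theorem trace_ineq [FiniteDimensional K V] (h : ρ (-1) = 1) :
    2 * finrank K (wW ρ) + finrank K V ≤ fd ⊤ (ρ u13) + 2 * fd ⊤ (ρ z13) := by
  have h1 := finrank_le_ker (U := ⊤) (W := ⊤ ⊓ fx (ρ u13)) (nU ρ) fun v _ => ⟨trivial, mem_fx.2 (uN v)⟩
  rw [finrank_top, top_inf_eq] at h1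
  have h2 := finrank_split ne2 (U := LinearMap.ker (nU ρ)) (z := ρ z13)
    (fun w hw => by rw [LinearMap.mem_ker, ← zN, LinearMap.mem_ker.1 hw, map_zero]) fun w _ => zz h w
  have h3 := Submodule.finrank_sup_add_finrank_inf_eq (wW ρ) (LinearMap.ker (nU ρ) ⊓ fx (ρ z13))
  rw [show wW ρ ⊓ (LinearMap.ker (nU ρ) ⊓ fx (ρ z13)) = ⊥ from eq_bot_iff.2 fun v hv =>
    (N_fix (mem_W.1 hv.1).1).symm.trans hv.2.1, finrank_bot] at h3
  have h4 : finrank K ↥(wW ρ ⊔ LinearMap.ker (nU ρ) ⊓ fx (ρ z13)) ≤ fd ⊤ (ρ z13) :=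
    Submodule.finrank_mono (le_inf le_top (sup_le inf_le_right inf_le_right))
  have h5 := finrank_le_ker (U := LinearMap.ker (nU ρ) ⊓ fx (-ρ z13)) (W := LinearMap.ker (nU ρ) ⊓ fx (ρ z13))
    (ρ u13 - ρ u13 ^ 12) fun v hv => ⟨by
      rw [SetLike.mem_coe, LinearMap.mem_ker, LinearMap.sub_apply, map_sub, Nu, Nup, sub_self], mem_fx.2 (by
      rw [LinearMap.sub_apply, map_sub, ← End.mul_apply, ← End.mul_apply, ← map_pow, ← map_mul, ← map_mul,
        rel.2.2.2.2.2.1, rel.2.2.2.2.2.2.2.2.2.2, map_mul, map_mul, End.mul_apply, End.mul_apply, mem_fx_neg.1 hv.2,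
        map_neg, map_neg, neg_sub_neg])⟩
  rw [show LinearMap.ker (nU ρ) ⊓ fx (-ρ z13) ⊓ LinearMap.ker (ρ u13 - ρ u13 ^ 12) = ⊥ from eq_bot_iff.2 fun v hv => by
    have a : ρ u13 v = (ρ u13 ^ 12) v := sub_eq_zero.1 hv.2
    have b : (ρ u13 ^ 2) v = v := by
      rw [pow_two, End.mul_apply, a, ← End.mul_apply, ← pow_succ', u_pow, End.one_apply]
    have c := pow_fix b 7
    rw [← pow_mul, show 2 * 7 = 13 + 1 from rfl, pow_succ, u_pow, one_mul] at c
    exact (N_fix c).symm.trans hv.1.1, finrank_bot] at h5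
  unfold fd at *
  omega

theorem three_le [FiniteDimensional K V] (h : ρ (-1) = 1) (h1 : ∀ v : V, (∀ g, ρ g v = v) → v = 0)
    (h2 : ∀ f : Dual K V, (∀ g, f ∘ₗ ρ g = f) → f = 0) : 3 * finrank K (wP ρ) ≤ finrank K (wW ρ) := by
  have gen : ∀ {p : S13 → Prop}, p u13 → p s13 → p 1 → (∀ a b, p a → p b → p (a * b)) → ∀ g, p g := fun {p} a b c d g =>
    Submonoid.closure_induction (motive := fun g _ => p g) (s := {u13, s13}) (by rintro _ (rfl | rfl); exacts [a, b]) c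
      (fun x y _ _ => d x y) (by rw [← Subgroup.closure_toSubmonoid_of_finite, gen13]; trivial)
  have ha : ∀ w ∈ wP ρ, yy ρ w = 0 → w = 0 := fun w hw e => by
    obtain ⟨a1, a2⟩ := mem_P.1 hw
    have a3 : ρ h13 w = w := by
      have := congrArg (fun x => ρ h13 (ρ h13 x)) (sub_eq_zero.1 e)
      simpa only [End.mul_apply, hhh] using this.symm
    rw [sH_apply, a3, a3, three (K := K), add_zero] at a2
    have a4 := sNsW h a1
    have a5 := sum_ta fun i => (ρ u13 ^ i) (ρ s13 w)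
    rw [← LinearMap.sum_apply (Finset.range 13), ← nU, a2, pow_zero, End.one_apply] at a5
    rw [a2, Finset.sum_congr rfl fun i _ => by rw [pow_fix a3]] at a4
    refine h1 w (gen (mem_W.1 a1).1 (half (K := K) ?_) (by rw [map_one, End.one_apply]) fun a b x y => by
      rw [map_mul, End.mul_apply, y, x])
    linear_combination (norm := abel) a4 + a5
  have hb : wP ρ ≤ (wW ρ ⊓ fx (-sH ρ)).map (yy ρ) := fun w hw => by_contra fun n => by
    obtain ⟨f₀, b1, b2⟩ := Submodule.exists_dual_map_eq_bot_of_notMem n inferInstance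
    obtain ⟨f, hf⟩ : ∃ f : Dual K V, ∀ v, f v = f₀ (pP ρ v) := ⟨f₀ ∘ₗ pP ρ, fun _ => rfl⟩
    have b3 : ∀ v, f (yy ρ v) = 0 := fun v => by
      have e : pP ρ (yy ρ v) = yy ρ (nU ρ v + ρ z13 (nU ρ v) - sH ρ (nU ρ v + ρ z13 (nU ρ v))) := by
        rw [pP_apply, map_sub, sub_eq_add_neg, ← sHy]
        simp only [yy_apply, map_add, map_sub, hN, zN, zh]
      rw [hf, e]
      exact (Submodule.mem_bot K).1 (b2.le (Submodule.mem_map_of_mem (Submodule.mem_map_of_mem
        ⟨sub_mem (EW h v) (sHW h (EW h v)), mem_fx_neg.2 (by rw [map_sub, sHsH h (EW h v), neg_sub])⟩)))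
    have fh : ∀ v, f (ρ h13 v) = f v := fun v => by
      have := b3 (ρ h13 (ρ h13 v))
      rw [yy_apply, hhh, map_sub, sub_eq_zero] at this
      exact this.symm
    have fu : ∀ v, f (ρ u13 v) = f v := fun v => by rw [hf, hf, pP_apply, pP_apply, Nu]
    have fz : ∀ v, f (ρ z13 v) = f v := fun v => by rw [hf, hf, pP_apply, pP_apply, ← zN, zz h, add_comm (ρ z13 _)]
    have fN : ∀ v, f (nU ρ v) = f v := fun v => by rw [hf, hf, pP_apply, pP_apply, N_fix (uN v)]
    have pw : ∀ {g : V → K} {x : End K V}, (∀ v, g (x v) = g v) → ∀ n v, g ((x ^ n) v) = g v := fun e n v => by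
      induction n with
      | zero => rfl
      | succ n ih => rw [pow_succ', End.mul_apply, e, ih]
    have b4 : ∀ v ∈ wW ρ, f (ρ s13 v) = f v := fun v hv => by
      have e : pP ρ (sH ρ v) = pP ρ v := by
        rw [pP_apply, pP_apply, N_fix (mem_W.1 hv).1, (mem_W.1 hv).2, N_fix (mem_W.1 (sHW h hv)).1,
          (mem_W.1 (sHW h hv)).2, map_add, map_add, sHsH h hv, add_comm]
      have e' : f (sH ρ v) = f v := by rw [hf, hf, e]
      rwa [sH_apply, map_add, map_add, map_add, fN, fh, fh, fh, three (K := K), add_zero] at e'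
    have b5 : ∀ v, f (ρ s13 (nU ρ v)) = f v := fun v => half (K := K) (by
      have := b4 _ (EW h v)
      rwa [map_add, map_add, map_add, sz h, fz, fz, fN] at this)
    have b6 : ∀ v, f (ρ s13 v) = f v := fun v => half (K := K) (by
      have a4 := congrArg f (sNs h v)
      have a5 := sum_ta fun i => f (ρ s13 ((ρ u13 ^ i) v))
      rw [← map_sum f _ (Finset.range 13), ← map_sum _ _ (Finset.range 13), ← LinearMap.sum_apply, ← nU, b5, pow_zero,
        End.one_apply] at a5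
      rw [b5, map_add, map_sum, Finset.sum_congr rfl fun i _ => by
        rw [pw fu, pw (g := fun v => f (ρ s13 v)) fun v => by rw [sz h, fz],
          pw (g := fun v => f (ρ s13 v)) fun v => by rw [sh, fh, fh]]] at a4
      linear_combination a4 + a5)
    have := h2 f fun g => LinearMap.ext (gen (p := fun g => ∀ v, f (ρ g v) = f v) fu b6
      (fun v => by rw [map_one, End.one_apply]) (fun a b x y v => by rw [map_mul, End.mul_apply, x, y]) g)
    exact b1 (by rw [← pP_eq hw, ← hf, this, LinearMap.zero_apply])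
  have c1 := finrank_split ne2 (U := wW ρ) (z := sH ρ) (fun _ => sHW h) fun _ => sHsH h
  have c2 := fin_eq (wW ρ ⊓ fx (-sH ρ)) (yy ρ)
  have c3 := Submodule.finrank_mono hb
  have c4 := finrank_le_ker (U := wP ρ) (W := wW ρ ⊓ fx (-sH ρ) ⊓ LinearMap.ker (yy ρ)) (yy ρ) fun v hv => by
    obtain ⟨a1, a2⟩ := mem_P.1 hv
    exact ⟨⟨yW a1, mem_fx_neg.2 (by rw [sHy, a2])⟩,
      ha _ (mem_P.2 ⟨yW (yW a1), by rw [sHy, sHy, a2, map_neg, neg_neg]⟩) (yyy v)⟩
  rw [show wP ρ ⊓ LinearMap.ker (yy ρ) = ⊥ from eq_bot_iff.2 fun v hv => ha v hv.1 hv.2, finrank_bot] at c4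
  unfold fd at c1
  unfold wP at *
  omega

end Cfsg.Agent.E84
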