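import Mathlib
import Cfsg.Agent.E84.LH
import Cfsg.Agent.Spor.MB.Scott

/-! Trivial composition factors of `L₂(13)` in characteristic `3` (see stubs/Cfsg/Agent/E84/PLAN.md) -/

set_option autoImplicit false

namespace Cfsg.Agent.E84

open Module Cfsg.Agent.E83

namespace LS

universe v

variable {K : Type*} [Field K] {V : Type v} [AddCommGroup V] [Module K V] {ρ : S13 →* End K V}

theorem pP_int {V' : Type*} [AddCommGroup V'] [Module K V'] {ρ' : S13 →* End K V'} (f : V →ₗ[K] V')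
    (hf : ∀ g v, f (ρ g v) = ρ' g (f v)) (v : V) : f (pP ρ v) = pP ρ' (f v) := by
  have hp : ∀ g (i : ℕ) v, f ((ρ g ^ i) v) = (ρ' g ^ i) (f v) := fun g i v => by
    rw [← map_pow, ← map_pow, hf]
  have hN : ∀ v, f (nU ρ v) = nU ρ' (f v) := fun v => by
    simp only [nU, LinearMap.sum_apply, map_sum, hp]
  simp only [pP, sH, End.mul_apply, LinearMap.add_apply, End.one_apply, map_add, hf, hp, hN]

theorem dim_eq [FiniteDimensional K V] (U S : Submodule K V) :
    finrank K S = finrank K (S.comap U.subtype) + finrank K (S.map U.mkQ) := by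
  rw [← LinearMap.finrank_range_add_finrank_ker (U.mkQ.domRestrict S), LinearMap.range_domRestrict,
    LinearMap.ker_domRestrict, Submodule.ker_mkQ, add_comm,
    ← Submodule.finrank_map_subtype_eq S, ← Submodule.finrank_map_subtype_eq U,
    Submodule.map_comap_subtype, Submodule.map_comap_subtype, inf_comm]

/-- the elements preserving `U` -/
def stab (ρ : S13 →* End K V) (U : Submodule K V) : Subgroup S13 where
  carrier := {g | ∀ v ∈ U, ρ g v ∈ U}
  one_mem' := fun v hv => by rwa [map_one]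
  mul_mem' := fun ha hb v hv => by rw [map_mul]; exact ha _ (hb v hv)
  inv_mem' := fun {g} hg => by
    obtain ⟨n, e⟩ := mem_powers_iff_mem_zpowers.2 (inv_mem (Subgroup.mem_zpowers g))
    rw [← e]
    clear e
    induction n with
    | zero => intro v hv; simpa using hv
    | succ n ih => intro v hv; dsimp only at ih ⊢; rw [pow_succ, map_mul]; exact ih _ (hg v hv)

theorem gen_us {M : Subgroup S13} (h1 : u13 ∈ M) (h2 : s13 ∈ M) (g : S13) : g ∈ M := by
  have : Subgroup.closure {u13, s13} ≤ M := by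
    rw [Subgroup.closure_le]
    rintro _ (rfl | rfl)
    exacts [h1, h2]
  exact this (gen13 ▸ Subgroup.mem_top g)

theorem inv_us {U : Submodule K V} (h1 : u13 ∈ stab ρ U) (h2 : s13 ∈ stab ρ U) (g : S13) :
    U ≤ U.comap (ρ g) := gen_us h1 h2 g

/-- a conjugate of `z13` -/
def x13 : S13 := ⟨!![3, 2; 8, 10], by rw [Matrix.det_fin_two_of]; decide⟩

/-- the conjugating element -/
def g13 : S13 := ⟨!![1, 5; 1, 6], by rw [Matrix.det_fin_two_of]; decide⟩

theorem gen_xh {M : Subgroup S13} (m : -1 ∈ M) (x : x13 ∈ M) (y : h13 ∈ M) (g : S13) : g ∈ M := by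
  have a := mul_mem x y
  have b := mul_mem a y
  have e1 : u13 = -1 * (x13 * h13 * (x13 * h13) * (x13 * h13 * h13) * (x13 * h13) * x13) :=
    Subtype.ext (by decide +kernel)
  have e2 : s13 = -1 * (x13 * h13 * (x13 * h13) * (x13 * h13 * h13) * (x13 * h13 * h13) *
      (x13 * h13) * (x13 * h13 * h13) * (x13 * h13) * (x13 * h13) * (x13 * h13 * h13) *
      (x13 * h13 * h13) * x13) := Subtype.ext (by decide +kernel)
  refine gen_us ?_ ?_ g
  · rw [e1]
    exact mul_mem m (mul_mem (mul_mem (mul_mem (mul_mem a a) b) a) x)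
  · rw [e2]
    exact mul_mem m (mul_mem (mul_mem (mul_mem (mul_mem (mul_mem (mul_mem (mul_mem (mul_mem
      (mul_mem (mul_mem a a) b) b) a) b) a) a) b) b) x)

theorem inv_xh (h : ρ (-1) = 1) {U : Submodule K V} (x : x13 ∈ stab ρ U) (y : h13 ∈ stab ρ U)
    (g : S13) : U ≤ U.comap (ρ g) := gen_xh (M := stab ρ U) (fun v hv => by rwa [h]) x y g

theorem fd_top (f : End K V) : fd ⊤ f = finrank K (fx f) := by rw [fd, top_inf_eq]

theorem ker_eq (f : End K V) : LinearMap.ker (1 - f) = fx f := by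
  rw [← neg_sub, LinearMap.ker_neg, fx]

variable [CharP K 3] [FiniteDimensional K V]

theorem three : (3 : End K V) = 0 := by
  rw [← map_ofNat (algebraMap K (End K V)) 3, show (3 : K) = 0 from CharP.cast_eq_zero K 3, map_zero]

theorem thirteen : (13 : End K V) = 1 := by
  rw [show (13 : End K V) = 1 + 4 * 3 by norm_num, three, mul_zero, add_zero]

theorem three_h (h : ρ (-1) = 1) (hs : ∀ U : Submodule K V, (∀ g, U ≤ U.comap (ρ g)) → U = ⊥ ∨ U = ⊤) :
    finrank K V + 2 * fd ⊤ (ρ u13) ≤ 3 * fd ⊤ (ρ h13) := by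
  have u0 : ρ u13 ^ 13 = 1 := by
    rw [← map_pow, show u13 ^ 13 = 1 from Subtype.ext (by decide +kernel), map_one]
  have h0 : ρ h13 * ρ h13 * ρ h13 = 1 := by
    rw [← map_mul, ← map_mul, show h13 * h13 * h13 = 1 from Subtype.ext (by decide +kernel), map_one]
  have s0 : ρ s13 * ρ s13 = 1 := by
    rw [← map_mul, show s13 * s13 = -1 from Subtype.ext (by decide +kernel), h]
  have hu : ρ h13 * ρ u13 = ρ u13 ^ 9 * ρ h13 := by
    rw [← map_pow, ← map_mul, ← map_mul]; exact congrArg ρ (Subtype.ext (by decide +kernel))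
  have uh : ρ u13 * ρ h13 = ρ h13 * ρ u13 ^ 3 := by
    rw [← map_pow, ← map_mul, ← map_mul]; exact congrArg ρ (Subtype.ext (by decide +kernel))
  have uz : ρ u13 * ρ z13 = ρ z13 * ρ u13 ^ 12 := by
    rw [← map_pow, ← map_mul, ← map_mul]; exact congrArg ρ (Subtype.ext (by decide +kernel))
  have hz : ρ h13 * ρ z13 = ρ z13 * ρ h13 := by
    rw [← map_mul, ← map_mul]; exact congrArg ρ (Subtype.ext (by decide +kernel))
  have hs' : ρ h13 * ρ s13 = ρ s13 * ρ h13 * ρ h13 := by
    rw [← map_mul, ← map_mul, ← map_mul]; exact congrArg ρ (Subtype.ext (by decide +kernel))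
  have pw : ∀ {f : End K V} {v : V}, f v = v → ∀ i : ℕ, (f ^ i) v = v := fun {f v} e i => by
    induction i with
    | zero => rfl
    | succ i ih => rw [pow_succ, End.mul_apply, e, ih]
  have uN : ρ u13 * nU ρ = nU ρ := by
    have := mul_geom_sum (ρ u13) 13
    rwa [u0, sub_self, sub_mul, one_mul, sub_eq_zero] at this
  have Nu : nU ρ * ρ u13 = nU ρ := by
    have := geom_sum_mul (ρ u13) 13
    rwa [u0, sub_self, mul_sub, mul_one, sub_eq_zero] at this
  have Nu' : ∀ i : ℕ, nU ρ * ρ u13 ^ i = nU ρ := fun i => by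
    induction i with
    | zero => rw [pow_zero, mul_one]
    | succ i ih => rw [pow_succ, ← mul_assoc, ih, Nu]
  have Nx : ∀ {v : V}, ρ u13 v = v → nU ρ v = v := fun {v} e => by
    have : (13 : End K V) v = v := by rw [thirteen]; rfl
    simpa [nU, LinearMap.sum_apply, pw e] using this
  have hX : ∀ v ∈ fx (ρ u13), ρ h13 v ∈ fx (ρ u13) := fun v hv => by
    rw [mem_fx, ← End.mul_apply, uh, End.mul_apply, pw (mem_fx.1 hv)]
  have hN : ρ h13 * nU ρ = nU ρ * ρ h13 := by
    have a : ∀ i : ℕ, nU ρ * ρ h13 * ρ u13 ^ i = nU ρ * ρ h13 := fun i => by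
      induction i with
      | zero => rw [pow_zero, mul_one]
      | succ i ih => rw [pow_succ, ← mul_assoc, ih, mul_assoc, hu, ← mul_assoc, Nu']
    have b : nU ρ * ρ h13 * nU ρ = nU ρ * ρ h13 := by
      nth_rewrite 2 [nU]
      rw [Finset.mul_sum, Finset.sum_congr rfl fun i _ => a i, Finset.sum_const, Finset.card_range,
        nsmul_eq_mul, Nat.cast_ofNat, thirteen, one_mul]
    rw [← b]
    ext v
    exact (Nx (mem_fx.1 (hX _ (mem_fx.2 (LinearMap.congr_fun uN v))))).symm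
  have key : fx (ρ u13) ≤ fx (ρ h13) := by
    have zX : ∀ v ∈ fx (ρ u13) ⊓ fx (ρ h13), ∀ j : ℕ, (ρ z13 ^ j) v ∈ fx (ρ u13) ⊓ fx (ρ h13) :=
      fun v hv j => by
        induction j with
        | zero => exact hv
        | succ j ih =>
          rw [pow_succ', End.mul_apply]
          exact ⟨mem_fx.2 (by rw [← End.mul_apply, uz, End.mul_apply, pw (mem_fx.1 ih.1)]),
            mem_fx.2 (by rw [← End.mul_apply, hz, End.mul_apply, mem_fx.1 ih.2])⟩
    let V₁ : Submodule K V := fx (ρ u13) ⊓ fx (ρ h13) ⊔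
      ⨆ i : ℕ, (fx (ρ u13) ⊓ fx (ρ h13)).map (ρ u13 ^ i * ρ s13)
    have m : ∀ v ∈ fx (ρ u13) ⊓ fx (ρ h13), ∀ i : ℕ, (ρ u13 ^ i * ρ s13) v ∈ V₁ := fun v hv i =>
      Submodule.mem_sup_right (Submodule.mem_iSup_of_mem i (Submodule.mem_map_of_mem hv))
    have iu : V₁ ≤ V₁.comap (ρ u13) := sup_le
      (fun v hv => Submodule.mem_sup_left (by rwa [mem_fx.1 hv.1]))
      (iSup_le fun i => Submodule.map_le_iff_le_comap.2 fun v hv => by
        have := m v hv (i + 1)
        rwa [pow_succ', mul_assoc] at this)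
    have is : V₁ ≤ V₁.comap (ρ s13) := sup_le (fun v hv => by simpa using m v hv 0)
      (iSup_le fun i => Submodule.map_le_iff_le_comap.2 fun v hv => by
        change (ρ s13 * (ρ u13 ^ i * ρ s13)) v ∈ V₁
        rw [pow_eq_pow_mod i u0, ← mul_assoc]
        by_cases c : i % 13 = 0
        · rw [c, pow_zero, mul_one, s0]
          exact Submodule.mem_sup_left hv
        · obtain ⟨a, j, k, e⟩ := sus h (Nat.mod_lt i (by norm_num)) c
          rw [e, End.mul_apply, End.mul_apply, End.mul_apply (ρ z13 ^ j), pw (mem_fx.1 hv.1),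
            pw (mem_fx.1 hv.2)]
          exact m _ (zX v hv j) a)
    rcases hs V₁ (inv_us iu is) with e | e
    · have := finrank_le_three hX h0
      rw [fd, le_bot_iff.1 (le_sup_left.trans e.le), finrank_bot, mul_zero, Nat.le_zero,
        Submodule.finrank_eq_zero] at this
      exact this.le.trans bot_le
    · have l : V₁ ≤ (fx (ρ h13)).comap (nU ρ) := sup_le
        (fun v hv => by rw [Submodule.mem_comap, Nx (mem_fx.1 hv.1)]; exact hv.2)
        (iSup_le fun i => Submodule.map_le_iff_le_comap.2 fun v hv => by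
          change (ρ h13 - 1) ((nU ρ * (ρ u13 ^ i * ρ s13)) v) = 0
          rw [← mul_assoc, Nu', LinearMap.sub_apply, sub_eq_zero, ← End.mul_apply, ← mul_assoc, hN,
            mul_assoc, hs']
          simp only [End.mul_apply, mem_fx.1 hv.2, End.one_apply])
      intro v hv
      have := l (e ▸ Submodule.mem_top (x := v))
      rwa [Submodule.mem_comap, Nx (mem_fx.1 hv)] at this
  have hY : ∀ v ∈ LinearMap.range (ρ u13 - 1), ρ h13 v ∈ LinearMap.range (ρ u13 - 1) := by
    rintro _ ⟨v, rfl⟩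
    refine ⟨((∑ i ∈ Finset.range 9, ρ u13 ^ i) * ρ h13) v, ?_⟩
    rw [← End.mul_apply, ← mul_assoc, mul_geom_sum, sub_mul, ← hu, one_mul, ← End.mul_apply, mul_sub,
      mul_one]
  have a1 := finrank_le_three hY h0
  have a2 := LinearMap.finrank_range_add_finrank_ker (ρ u13 - 1)
  have a3 := Submodule.finrank_sup_add_finrank_inf_eq (fx (ρ u13))
    (LinearMap.range (ρ u13 - 1) ⊓ fx (ρ h13))
  have a4 : fx (ρ u13) ⊓ (LinearMap.range (ρ u13 - 1) ⊓ fx (ρ h13)) = ⊥ := by
    rw [eq_bot_iff]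
    rintro _ ⟨a, ⟨v, rfl⟩, -⟩
    rw [Submodule.mem_bot, ← Nx (mem_fx.1 a), ← End.mul_apply, mul_sub, Nu, mul_one, sub_self]
    rfl
  have a5 := Submodule.finrank_mono (sup_le key inf_le_right :
    fx (ρ u13) ⊔ (LinearMap.range (ρ u13 - 1) ⊓ fx (ρ h13)) ≤ _)
  rw [a4, finrank_bot] at a3
  rw [fd_top, fd_top]
  rw [fd] at a1
  change _ + finrank K (fx (ρ u13)) = _ at a2
  omega

theorem simple (h : ρ (-1) = 1) (hs : ∀ U : Submodule K V, (∀ g, U ≤ U.comap (ρ g)) → U = ⊥ ∨ U = ⊤) :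
    3 * fd ⊤ (ρ w13) + 3 * fd ⊤ (ρ z13) + 2 * fd ⊤ (ρ u13) ≤ 2 * finrank K V + 6 * finrank K (wP ρ) := by
  have triv : fx (ρ x13) ⊓ fx (ρ h13) = ⊤ → 3 * fd ⊤ (ρ w13) + 3 * fd ⊤ (ρ z13) + 2 * fd ⊤ (ρ u13) ≤
      2 * finrank K V + 6 * finrank K (wP ρ) := fun e => by
    have e' : ∀ v, ρ x13 v = v ∧ ρ h13 v = v := fun v =>
      (e ▸ Submodule.mem_top (x := v) : v ∈ fx (ρ x13) ⊓ fx (ρ h13)).imp mem_fx.1 mem_fx.1
    have one : ∀ g, ρ g = 1 := gen_xh (M := ρ.ker) h (LinearMap.ext fun v => (e' v).1)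
      (LinearMap.ext fun v => (e' v).2)
    have : wP ρ = ⊤ := by
      have s : sH ρ = 1 := by
        simp only [sH, nU, one, one_pow, Finset.sum_const, Finset.card_range, nsmul_eq_mul,
          Nat.cast_ofNat, mul_one, thirteen]
        rw [show (1 + 1 + 1 : End K V) = 3 by norm_num, three, add_zero]
      simp [wP, wW, s, one, fx]
    rw [this, finrank_top]
    have b : ∀ f : End K V, fd ⊤ f ≤ finrank K V := fun f => Submodule.finrank_le _
    have := b (ρ w13)
    have := b (ρ z13)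
    have := b (ρ u13)
    omega
  rcases hs (fx (ρ x13) ⊓ fx (ρ h13)) (inv_xh h (fun v hv => by rwa [mem_fx.1 hv.1])
    fun v hv => by rwa [mem_fx.1 hv.2]) with e | e
  swap
  · exact triv e
  rcases hs (LinearMap.range (1 - ρ x13) ⊔ LinearMap.range (1 - ρ h13)) (inv_xh h
    (fun v hv => by simpa using sub_mem hv (Submodule.mem_sup_left ⟨v, rfl⟩))
    fun v hv => by simpa using sub_mem hv (Submodule.mem_sup_right ⟨v, rfl⟩)) with e' | e'
  · rw [sup_eq_bot_iff, LinearMap.range_eq_bot, LinearMap.range_eq_bot] at e'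
    exact triv (by rw [← ker_eq, ← ker_eq, e'.1, e'.2, LinearMap.ker_zero, inf_idem])
  have sc := Spor.Scott.scott (ρ x13) (ρ h13) (ρ w13) (by
    rw [← map_mul, ← map_mul, show x13 * h13 * w13 = 1 from Subtype.ext (by decide +kernel), map_one])
  have r := fun f : End K V => LinearMap.finrank_range_add_finrank_ker (1 - f)
  have r1 := r (ρ x13)
  have r2 := r (ρ h13)
  have r3 := r (ρ w13)
  rw [ker_eq, ← fd_top] at r1 r2 r3
  rw [e', finrank_top, ker_eq, ker_eq, e, finrank_bot] at sc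
  have c : fd ⊤ (ρ z13) = fd ⊤ (ρ x13) := fd_conj ((Group.isUnit g13).map ρ) (by
    rw [← map_mul, ← map_mul]; exact congrArg ρ (Subtype.ext (by decide +kernel)))
  have := three_h h hs
  omega

theorem aux (n : ℕ) : ∀ {V : Type v} [AddCommGroup V] [Module K V] [FiniteDimensional K V]
    {ρ : S13 →* End K V}, ρ (-1) = 1 → finrank K V = n →
    3 * fd ⊤ (ρ w13) + 3 * fd ⊤ (ρ z13) + 2 * fd ⊤ (ρ u13) ≤
      2 * finrank K V + 6 * finrank K (wP ρ) := by
  induction n using Nat.strong_induction_on with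
  | _ n ih =>
  intro V _ _ _ ρ h hn
  by_cases hs : ∀ U : Submodule K V, (∀ g, U ≤ U.comap (ρ g)) → U = ⊥ ∨ U = ⊤
  · exact simple h hs
  push Not at hs
  obtain ⟨U, hU, u0, u1⟩ := hs
  let ρ₁ : S13 →* End K U := Representation.subrepresentation ρ U hU
  let ρ₂ : S13 →* End K (V ⧸ U) := Representation.quotient ρ U hU
  have f1 : ∀ g v, U.subtype (ρ₁ g v) = ρ g (U.subtype v) := fun _ _ => rfl
  have f2 : ∀ g v, U.mkQ (ρ g v) = ρ₂ g (U.mkQ v) := fun _ _ => rfl
  have h1 : ρ₁ (-1) = 1 := LinearMap.ext fun v => Subtype.ext ((f1 _ v).trans (by rw [h]; rfl))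
  have h2 : ρ₂ (-1) = 1 := LinearMap.ext fun v => by
    obtain ⟨v, rfl⟩ := U.mkQ_surjective v
    rw [← f2, h]; rfl
  have d := U.finrank_quotient_add_finrank
  have d1 := Submodule.finrank_lt u1
  have d0 : finrank K U ≠ 0 := fun e => u0 (Submodule.finrank_eq_zero.1 e)
  have i1 := ih _ (hn ▸ d1) h1 rfl
  have i2 := ih _ (by omega) h2 rfl
  have up : ∀ g, fd ⊤ (ρ g) ≤ fd ⊤ (ρ₁ g) + fd ⊤ (ρ₂ g) := fun g => by
    rw [fd_top, fd_top, fd_top, dim_eq U]
    refine add_le_add (Submodule.finrank_mono fun v hv => mem_fx.2 (Subtype.ext (mem_fx.1 hv)))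
      (Submodule.finrank_mono ?_)
    rintro _ ⟨v, hv, rfl⟩
    rw [mem_fx, ← f2, mem_fx.1 hv]
  have lo : finrank K (wP ρ₁) + finrank K (wP ρ₂) ≤ finrank K (wP ρ) := by
    rw [dim_eq U (wP ρ)]
    refine add_le_add (Submodule.finrank_mono fun v hv => ?_) (Submodule.finrank_mono fun v hv => ?_)
    · rw [Submodule.mem_comap, ← pP_eq hv, pP_int U.subtype f1]
      exact pP_mem h _
    · obtain ⟨v, rfl⟩ := U.mkQ_surjective v
      exact ⟨pP ρ v, pP_mem h v, (pP_int U.mkQ f2 v).trans (pP_eq hv)⟩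
  have := up w13
  have := up z13
  have := up u13
  omega

end LS

theorem main_ineq {K V : Type*} [Field K] [CharP K 3] [AddCommGroup V] [Module K V] [FiniteDimensional K V]
    {ρ : S13 →* End K V} (h : ρ (-1) = 1) :
    3 * fd ⊤ (ρ w13) + 3 * fd ⊤ (ρ z13) + 2 * fd ⊤ (ρ u13) ≤ 2 * finrank K V + 6 * finrank K (wP ρ) :=
  LS.aux _ h rfl

end Cfsg.Agent.E84
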