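import Mathlib
import Cfsg.Agent.E84.LS
import Cfsg.Agent.FV.Kac7
import Cfsg.Agent.FV.Form

/-!
# `L₂(13)` fixes a vector of the adjoint module of `E₈(3)`
-/

set_option autoImplicit false

namespace Cfsg.Agent.E84

open Module Matrix Cfsg.Agent.E83

theorem fd_invol {x : St} (hx : x ^ 2 = 1) (h1 : x ≠ 1) : 120 ≤ fd ⊤ (rho x) := by
  have h2 := kac8 (x := x) (by rw [show 8 = 2 * 4 from rfl, pow_mul, hx, one_pow]) h1
  rw [show 4 = 2 * 2 from rfl, pow_mul, hx, one_pow, tau_rho_one] at h2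
  have h3 := (by decide : ∀ a ∈ kacL, a.2 = (248, 248) → -8 ≤ a.1) _ h2 rfl
  have h4 := finrank_split two_ne (U := ⊤) (z := rho x) (fun _ _ => trivial) fun w _ => by
    rw [← End.mul_apply, ← map_mul, ← sq, hx, map_one, End.one_apply]
  rw [finrank_top, finrank_LL] at h4
  simp only [tau] at h3
  omega

theorem hasFix_l13 : HasFix (ProjectiveSpecialLinearGroup (Fin 2) (ZMod 13)) := fun φ hφ => by
  by_contra h0
  let ψ : S13 →* St := φ.comp (QuotientGroup.mk' _)
  have hψ : ∀ g, ψ g = 1 ↔ g ∈ Subgroup.center S13 := fun g =>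
    (map_eq_one_iff φ hφ).trans (QuotientGroup.eq_one_iff _)
  have hs : ∀ v : LL, (∀ g, rho (ψ g) v = v) → v = 0 := fun v hv => by
    by_contra h
    exact h0 ⟨v, h, fun x => by obtain ⟨g, rfl⟩ := QuotientGroup.mk'_surjective _ x; exact hv g⟩
  have hm : ψ (-1) = 1 := (hψ _).2 (Subgroup.mem_center_iff.2 fun g => by simp)
  have h : (rho.comp ψ) (-1) = 1 := by rw [MonoidHom.comp_apply, hm, map_one]
  have hn : ∀ g : S13, g * s13 ≠ s13 * g ∨ g * u13 ≠ u13 * g → ψ g ≠ 1 := fun g hg e =>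
    hg.elim (· (Subgroup.mem_center_iff.1 ((hψ g).1 e) _).symm) (· (Subgroup.mem_center_iff.1 ((hψ g).1 e) _).symm)
  have h1 := main_ineq h
  have h2 := trace_ineq h
  have h3 := three_le h hs fun f hf => by
    by_contra e
    obtain ⟨v, a, b⟩ := FV.fix_of_cofix (S := Set.range ψ) e (by rintro _ ⟨g, rfl⟩; exact hf g)
    exact a (hs v fun g => b _ ⟨g, rfl⟩)
  have h4 := FV.kac7L (x := ψ w13) (by rw [← map_pow, show w13 ^ 7 = 1 by decide +kernel, map_one])
    (hn _ (.inl (by decide +kernel)))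
  have h5 := FV.kac13L (x := ψ u13) (by rw [← map_pow, show u13 ^ 13 = 1 by decide +kernel, map_one])
    (hn _ (.inl (by decide +kernel)))
  have h6 := fd_invol (x := ψ z13) (by rw [← map_pow, show z13 ^ 2 = -1 by decide +kernel, hm])
    (hn _ (.inr (by decide +kernel)))
  rw [finrank_LL] at h1 h2
  simp only [MonoidHom.comp_apply, List.mem_cons, List.not_mem_nil, or_false] at h1 h2 h4 h5
  omega

end Cfsg.Agent.E84
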