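import Mathlib
import Cfsg.Agent.E83.Use
import Cfsg.Agent.Spor.NM.Mat

/-!
# Coded matrix groups over the field with two elements; fixed vectors of generating sets
-/

set_option autoImplicit false
set_option linter.unusedSectionVars false

namespace Cfsg.Agent.E84

open Module Cfsg.Agent.Spor Cfsg.Agent.Spor.NM Cfsg.Agent.E83

section Codes

variable (mul : ℕ → ℕ → ℕ) (R one : ℕ) (Γ : List ℕ)

/-- the matrix part of a code -/
def lo (a : ℕ) : ℕ := Nat.mod (Nat.div a 2) R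

/-- the product of signed codes -/
noncomputable def mu2 (a b : ℕ) : ℕ :=
  force a fun a => force b fun b => force (lo R a) fun x => force (lo R b) fun y =>
    Nat.add (Nat.mul 2 (mul x y)) (Nat.mod (Nat.add a b) 2)

/-- the value of a word written in base `16` -/
noncomputable def evw (k : ℕ) : ℕ → ℕ :=
  Nat.rec (fun _ => one) (fun _ ih w => Bool.rec (force (Γ.getD (Nat.mod w 16) one) fun g =>
    force (force (Nat.div w 16) ih) fun x => mul g x) one (Nat.beq w 0)) k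

/-- the high part of the code is a word for the matrix part -/
noncomputable def ok2 (a : ℕ) : Bool :=
  force a fun a => Nat.beq (lo R a) (force (Nat.div a (Nat.mul 2 R)) (evw mul one Γ 64))

variable {mul one R Γ} {n : ℕ} {ent : ℕ → Bool} {ι X : Type*} [Fintype ι] [DecidableEq ι] [Group X]
  (ε : ι ≃ Fin n) (ρ : X →* Matrix ι ι (ZMod 2))

/-- codes of elements of `X` -/
def Val (c : ℕ) : Prop := Ent 1 (n * n) (· < 2) c ∧ ∃ g, ρ g = dec ε 1 (fun x => (x : ZMod 2)) c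

open Classical in
/-- the element with a given code -/
noncomputable def el (c : ℕ) : X := if h : ∃ g, ρ g = dec ε 1 (fun x => (x : ZMod 2)) c then h.choose else 1

variable {ε ρ} (S : MatSpec (ZMod 2) n 1 (· < 2) (fun x => (x : ZMod 2)) mul one ent) (hρ : Function.Injective ρ)

theorem Val.spec {c : ℕ} (h : Val ε ρ c) : ρ (el ε ρ c) = dec ε 1 (fun x => (x : ZMod 2)) c := by
  rw [el, dif_pos h.2]; exact h.2.choose_spec

include S

theorem val_one : Val ε ρ one := ⟨S.ent_one, 1, by rw [map_one, S.dec_one]⟩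

theorem Val.prod {a b : ℕ} (ha : Val ε ρ a) (hb : Val ε ρ b) : Val ε ρ (mul a b) :=
  ⟨S.ent_mul _ _ ha.1 hb.1, el ε ρ a * el ε ρ b, by rw [map_mul, ha.spec, hb.spec, S.dec_mul ε ha.1 hb.1]⟩

theorem Val.inj {a b : ℕ} (ha : Val ε ρ a) (hb : Val ε ρ b) (h : el ε ρ a = el ε ρ b) : a = b :=
  S.dec_inj ε ha.1 hb.1 (by rw [← ha.spec, ← hb.spec, h])

theorem val_evw (hΓ : ∀ c ∈ Γ, Val ε ρ c) (k w : ℕ) : Val ε ρ (evw mul one Γ k w) := by
  induction k generalizing w with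
  | zero => exact val_one S
  | succ k ih =>
    change Val ε ρ (Bool.rec (mul (Γ.getD (w % 16) one) (evw mul one Γ k (w / 16))) one (Nat.beq w 0))
    cases Nat.beq w 0
    · refine Val.prod S ?_ (ih _)
      rw [List.getD_eq_getElem?_getD]
      cases h' : Γ[w % 16]? with
      | none => exact val_one S
      | some a => exact hΓ a (List.mem_of_getElem? h')
    · exact val_one S

include hρ

theorem el_one : el ε ρ one = 1 := hρ (by rw [(val_one S).spec, map_one, S.dec_one])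

theorem Val.el_mul {a b : ℕ} (ha : Val ε ρ a) (hb : Val ε ρ b) : el ε ρ (mul a b) = el ε ρ a * el ε ρ b :=
  hρ (by rw [(ha.prod S hb).spec, map_mul, ha.spec, hb.spec, S.dec_mul ε ha.1 hb.1])

omit S in
theorem el_eq {c : ℕ} {g : X} (h : ρ g = dec ε 1 (fun x => (x : ZMod 2)) c) : el ε ρ c = g := by
  rw [el, dif_pos ⟨g, h⟩]
  exact hρ ((Exists.choose_spec (⟨g, h⟩ : ∃ g, ρ g = _)).trans h.symm)

theorem exists_mdl2 (hR : R = 2 ^ (1 * (n * n))) (hΓ : ∀ c ∈ Γ, Val ε ρ c) {G : Type*} [Group G] (φ : X →* G)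
    (hφ : Function.Injective φ) {e : ℕ} (he : e = 2 * one) :
    ∃ M : Mdl (mu2 mul R) (ok2 mul R one Γ) e G, ∀ a, M.gx a = φ (el ε ρ (lo R a)) := by
  have h1 : ∀ {c b : ℕ}, Val ε ρ c → b < 2 → lo R (2 * c + b) = c := fun {c b} hc hb => by
    change (2 * c + b) / 2 % R = c
    rw [show (2 * c + b) / 2 = c by omega, Nat.mod_eq_of_lt (hR ▸ hc.1.1)]
  have h2 : ∀ {a b : ℕ}, Val ε ρ (lo R a) → Val ε ρ (lo R b) → lo R (mu2 mul R a b) = mul (lo R a) (lo R b) :=
    fun ha hb => h1 (ha.prod S hb) (Nat.mod_lt _ two_pos)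
  have h3 : lo R e = one := he ▸ h1 (b := 0) (val_one S) two_pos
  refine ⟨⟨fun a => Val ε ρ (lo R a), fun a => φ (el ε ρ (lo R a)), h3 ▸ val_one S, by rw [h3, el_one S hρ, map_one],
    by omega, fun ha hb => h2 ha hb ▸ ha.prod S hb, fun ha hb => by rw [h2 ha hb, ha.el_mul S hρ hb, map_mul],
    fun a b => ?_, fun {a b} h => ?_, fun {a} h => ?_, fun {a b} ha hb h => ?_⟩, fun _ => rfl⟩
  · change (2 * _ + (a + b) % 2) % 2 = _
    omega
  · have : lo R a = lo R b := congrArg (· % R) h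
    rw [this]
    exact ⟨id, rfl⟩
  · have : lo R a = evw mul one Γ 64 (a / (2 * R)) := (nbeq_iff _ _).1 h
    exact this ▸ val_evw S hΓ _ _
  · have h4 := (map_eq_one_iff φ hφ).1 h
    have h5 := (ha.prod S hb).inj S (hb.prod S ha) (by rw [ha.el_mul S hρ hb, hb.el_mul S hρ ha, h4, one_mul, mul_one])
    change 2 * mul _ _ + (a + b) % 2 = 2 * mul _ _ + (b + a) % 2
    rw [h5, add_comm a]

end Codes

variable (mu : ℕ → ℕ → ℕ) (ok : ℕ → Bool) (e : ℕ)

/-- the value of a word -/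
noncomputable def wd (F w : List ℕ) : ℕ := List.rec e (fun i _ ih => mu (F.getD i e) ih) w

/-- the signed elements `B` permute the cosets of `y₁`, `y₂` -/
noncomputable def stepOK (F : List ℕ) (y₁ y₂ : ℕ) (B : List (ℕ × List ℕ × List ℕ)) : Bool :=
  allL B fun t => band (ok t.1) <| force (mu y₁ (wd mu e F t.2.1)) fun p => force (mu y₂ (wd mu e F t.2.2)) fun q =>
    force (mu t.1 y₁) fun p' => force (mu t.1 y₂) fun q' =>
      bor (band (Nat.beq p' p) (Nat.beq q' q)) (band (Nat.beq p' q) (Nat.beq q' p))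

/-- the steps for elements normalising `F` -/
noncomputable def multiOK (F : List ℕ) (T : List (ℕ × List (ℕ × List ℕ × List ℕ))) : Bool :=
  allL T fun t => band (ok t.1) <| band (Nat.beq (Nat.mod t.1 2) 0) (stepOK mu ok e F e (Nat.succ t.1) t.2)

/-- the step for an element satisfying a braid relation -/
noncomputable def braidOK (F : List ℕ) (s : ℕ) (w : List ℕ) (B : List (ℕ × List ℕ × List ℕ)) : Bool :=
  force (wd mu e F w) fun u => band (ok s) <| band (Nat.beq (Nat.mod u 2) 0) <| band (Nat.beq (mu s s) e) <|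
    band (Nat.beq (mu s (mu u (mu s (mu u (mu s u))))) e) (stepOK mu ok e F s (mu (Nat.succ u) s) B)

variable {mu ok e} {G K V : Type*} [Group G] [Field K] [AddCommGroup V] [Module K V]
  [FiniteDimensional K V] {M : Mdl mu ok e G} {ρ : G →* End K V}

theorem ok_wd {F : List ℕ} (hF : ∀ a ∈ F, M.Ok a) (w : List ℕ) : M.Ok (wd mu e F w) := by
  induction w with
  | nil => exact M.ok_e
  | cons i w ih => exact M.ok_mu (Mdl.ok_getD hF i) ih

theorem wd_fix {F : List ℕ} (hF : ∀ a ∈ F, M.Ok a) {v : V} (hv : v ∈ M.fix ρ F) (w : List ℕ) :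
    M.op ρ (wd mu e F w) v = v := by
  induction w with
  | nil => exact congrArg (· v) (Mdl.op_e (M := M) (ρ := ρ))
  | cons i w ih =>
    change M.op ρ (mu _ (wd mu e F w)) v = v
    rw [Mdl.op_mu (Mdl.ok_getD hF i) (ok_wd hF w), End.mul_apply, ih, List.getD_eq_getElem?_getD]
    cases h' : F[i]? with
    | none => exact congrArg (· v) (Mdl.op_e (M := M) (ρ := ρ))
    | some a => exact Mdl.mem_fix.1 hv a (List.mem_of_getElem? h')

theorem step_le {F : List ℕ} (hF : ∀ a ∈ F, M.Ok a) {y₁ y₂ : ℕ} (h1 : M.Ok y₁) (h2 : M.Ok y₂)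
    {B : List (ℕ × List ℕ × List ℕ)} (h : stepOK mu ok e F y₁ y₂ B = true) {U : Submodule K V} (hU : U ≤ M.fix ρ F) :
    finrank K U ≤ finrank K ↥(U ⊓ LinearMap.ker (M.op ρ y₁ + M.op ρ y₂)) + finrank K (M.fix ρ (B.map Prod.fst)) := by
  refine finrank_le_ker _ fun v hv => Mdl.mem_fix.2 fun b hb => ?_
  obtain ⟨t, ht, rfl⟩ := List.mem_map.1 hb
  simp only [stepOK, allL_iff, band_iff, bor_iff, force_eq, nbeq_iff] at h
  have h3 := M.ok_ok (h t ht).1
  have h4 : ∀ {y : ℕ} (w : List ℕ), M.Ok y → M.op ρ (mu y (wd mu e F w)) v = M.op ρ y v := fun w hy => by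
    rw [Mdl.op_mu hy (ok_wd hF w), End.mul_apply, wd_fix hF (hU hv)]
  rw [LinearMap.add_apply, map_add, ← End.mul_apply, ← End.mul_apply, ← Mdl.op_mu h3 h1, ← Mdl.op_mu h3 h2]
  rcases (h t ht).2 with ⟨a, b⟩ | ⟨a, b⟩
  · rw [a, b, h4 _ h1, h4 _ h2]
  · rw [a, b, h4 _ h1, h4 _ h2, add_comm]

theorem op_succ {a : ℕ} (h : a % 2 = 0) : M.op ρ (a + 1) = -M.op ρ a := by
  rw [Mdl.op_half (b := a) (by omega), Mdl.neg_pow_congr (b := 1) (by omega)]
  simp

theorem multi_le {F : List ℕ} (hF : ∀ a ∈ F, M.Ok a) {T : List (ℕ × List (ℕ × List ℕ × List ℕ))}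
    (h : multiOK mu ok e F T = true) {d : ℕ} (hd : ∀ t ∈ T, finrank K (M.fix ρ (t.2.map Prod.fst)) ≤ d) :
    finrank K (M.fix ρ F) ≤ finrank K (M.fix ρ (T.map Prod.fst ++ F)) + T.length * d := by
  simp only [multiOK, allL_iff, band_iff, nbeq_iff] at h
  induction T with
  | nil => exact Nat.le_add_right _ _
  | cons t T ih =>
    have h1 := ih (fun a ha => hd a (by simp [ha])) fun a ha => h a (by simp [ha])
    obtain ⟨h2, h3, h4⟩ := h t (by simp)
    have h5 := M.ok_ok h2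
    have h3' : t.1 % 2 = 0 := h3
    have h6 := step_le (ρ := ρ) hF M.ok_e ((M.half (a := t.1) (by rw [Nat.succ_eq_add_one]; omega)).1 h5) h4
      (U := M.fix ρ (T.map Prod.fst ++ F)) fun v hv => Mdl.mem_fix.2 fun a ha => Mdl.mem_fix.1 hv a (by simp [ha])
    have h7 : M.fix ρ (T.map Prod.fst ++ F) ⊓ LinearMap.ker (M.op ρ e + M.op ρ t.1.succ) ≤
        M.fix ρ ((t :: T).map Prod.fst ++ F) := fun v hv => ⟨hv.1, mem_fx.2 (by
      have := LinearMap.mem_ker.1 hv.2
      rw [Mdl.op_e, Nat.succ_eq_add_one, op_succ h3', ← sub_eq_add_neg, LinearMap.sub_apply, sub_eq_zero] at this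
      exact this.symm)⟩
    have h8 := Submodule.finrank_mono h7
    have h9 := hd t (by simp)
    rw [List.length_cons, add_mul]
    omega

theorem braid_le {F : List ℕ} (hF : ∀ a ∈ F, M.Ok a) {s : ℕ} {w : List ℕ} {B : List (ℕ × List ℕ × List ℕ)}
    (h : braidOK mu ok e F s w B = true) :
    finrank K (M.fix ρ F) ≤ finrank K (M.fix ρ (s :: F)) + finrank K (M.fix ρ (B.map Prod.fst)) := by
  simp only [braidOK, band_iff, nbeq_iff, force_eq] at h
  obtain ⟨h1, h2, h3, h4, h5⟩ := h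
  have hs := M.ok_ok h1
  have hu := ok_wd hF w
  have h2' : wd mu e F w % 2 = 0 := h2
  have hu' := (M.half (a := wd mu e F w) (b := (wd mu e F w).succ) (by rw [Nat.succ_eq_add_one]; omega)).1 hu
  refine (step_le (ρ := ρ) hF hs (M.ok_mu hu' hs) h5 le_rfl).trans (Nat.add_le_add_right (Submodule.finrank_mono ?_) _)
  intro v hv
  refine ⟨hv.1, mem_fx.2 ?_⟩
  have h6 := LinearMap.mem_ker.1 hv.2
  rw [Mdl.op_mu hu' hs, Nat.succ_eq_add_one, op_succ h2', neg_mul, ← sub_eq_add_neg, LinearMap.sub_apply, sub_eq_zero,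
    End.mul_apply] at h6
  have h7 := congrArg (M.op ρ · v) h3
  have h8 := congrArg (M.op ρ · v) h4
  have h9 := M.ok_mu hs hu
  simp only [Mdl.op_mu hs hs, Mdl.op_mu hs (M.ok_mu hu (M.ok_mu hs (M.ok_mu hu h9))),
    Mdl.op_mu hu (M.ok_mu hs (M.ok_mu hu h9)), Mdl.op_mu hs (M.ok_mu hu h9), Mdl.op_mu hu h9, Mdl.op_mu hs hu,
    End.mul_apply, Mdl.op_e, End.one_apply, wd_fix hF hv.1, ← h6] at h7 h8
  rwa [h7, wd_fix hF hv.1] at h8

theorem fix_top {F : List ℕ} (hF : ∀ a ∈ F, M.Ok a) (h0 : 0 < finrank K (M.fix ρ F)) {X : Type*} [Group X] (φ : X →* G)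
    {h : ℕ → X} {k : ℕ} (ht : genLt h k = ⊤) {W : ℕ → List ℕ}
    (hw : ∀ x < k, wd mu e F (W x) % 2 = 0 ∧ M.gx (wd mu e F (W x)) = φ (h x)) :
    ∃ v : V, v ≠ 0 ∧ ∀ x, ρ (φ x) v = v := by
  obtain ⟨v, hv, h1⟩ := Submodule.exists_mem_ne_zero_of_ne_bot (p := M.fix ρ F) fun h => by
    rw [h, finrank_bot] at h0; exact lt_irrefl _ h0
  refine ⟨v, h1, fun x => ?_⟩
  have h2 : x ∈ genLt h k := ht ▸ Subgroup.mem_top x
  induction h2 using Subgroup.closure_induction with
  | mem y hy =>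
    obtain ⟨i, hi, rfl⟩ := hy
    rw [← (hw i hi).2, ← Mdl.op_even (hw i hi).1, wd_fix hF hv]
  | one => rw [map_one, map_one, End.one_apply]
  | mul a b _ _ ha hb => rw [map_mul, map_mul, End.mul_apply, hb, ha]
  | inv a _ ha => rw [← congrArg (ρ (φ a⁻¹)) ha, ← End.mul_apply, ← map_mul, ← map_mul, inv_mul_cancel, map_one, map_one,
      End.one_apply]

end Cfsg.Agent.E84
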