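import Mathlib
import Cfsg.Agent.E84.Defs
import Cfsg.Agent.Spor.F22.N5
import Cfsg.Agent.Spor.F22.AK
import Cfsg.Agent.Spor.F22.C7
import Cfsg.Agent.Spor.F22.C5
import Cfsg.Agent.Spor.F22.A2
import Cfsg.Agent.Spor.F22.AC
import Cfsg.Agent.Spor.F22.I8
import Cfsg.Agent.Spor.FL.M22

/-! Abelian subgroups of even-characteristic groups containing elements of order `5` or `7` -/

set_option autoImplicit false

namespace Cfsg.Agent.E84

open Subgroup

theorem odd_le_cen {G : Type*} [Group G] {B : Subgroup G} (h1 : IsMulCommutative B) {X : Subgroup G} (hX : X ≤ B) :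
    B ≤ centralizer (X : Set G) := fun b hb x hx =>
  congrArg Subtype.val (h1.is_comm.comm (⟨x, hX hx⟩ : B) ⟨b, hb⟩)

theorem odd_exists {G : Type*} [Group G] [Finite G] {B : Subgroup G} {p n : ℕ} [Fact p.Prime]
    (h : p ^ n ∣ Nat.card B) : ∃ X : Subgroup G, X ≤ B ∧ Nat.card X = p ^ n := by
  obtain ⟨K, hK⟩ := Sylow.exists_subgroup_card_pow_prime p h
  exact ⟨K.map B.subtype, map_subtype_le K, by rw [card_map_of_injective B.subtype_injective, hK]⟩

theorem odd_fi22 {G : Type*} [Group G] (M : Spor.F22.Mod G) (hM : Spor.F22.Good M) (B : Subgroup G)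
    (h1 : IsMulCommutative B) (h3 : ¬ 3 ∣ Nat.card B) (h : 5 ∣ Nat.card B ∨ 7 ∣ Nat.card B) : Nat.card B < 128 := by
  have := M.fin
  rcases h with h | h
  · have : Fact (Nat.Prime 5) := ⟨by norm_num⟩
    obtain ⟨X, hXB, hX⟩ := odd_exists (p := 5) (n := 1) (by rwa [pow_one])
    rw [pow_one] at hX
    obtain ⟨t, ht, g, hg⟩ := Spor.FL.exists_eq_zpowers_of_classes (fun a ha => Spor.FL.conjTo_of_index
      (Spor.FL.not_dvd_index_of_card hM.card (Spor.F22.p5_cb M).1 (by norm_num)) (fun a => Spor.F22.cl5 M) ha) hX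
    obtain rfl : t = 0 := by omega
    have h4 := odd_le_cen h1 hXB
    rw [hg, Spor.FL.centralizer_zpowers, ← M.conj_wl] at h4
    have h5 : Nat.card B ∣ 600 := Spor.F22.c5_card _ (hM.conj g) ▸ card_dvd_of_le h4
    by_contra h6
    have h7 : Nat.card B ∣ 200 := by
      have h8 : Nat.Coprime (Nat.card B) 3 := ((Nat.Prime.coprime_iff_not_dvd (by norm_num)).2 h3).symm
      exact h8.dvd_of_dvd_mul_left (by simpa using h5)
    have h9 : Nat.card B = 200 := by
      obtain ⟨k, hk⟩ := h7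
      rcases k with _ | _ | k
      · omega
      · omega
      · nlinarith
    obtain ⟨Q, hQB, hQ⟩ := odd_exists (B := B) (p := 5) (n := 2) (by rw [h9]; norm_num)
    obtain ⟨u, hu⟩ := Spor.FL.exists_conj_le
      (Spor.FL.not_dvd_index_of_card (p := 5) hM.card (Spor.F22.nE_card M) (by norm_num)) (IsPGroup.of_card hQ)
    have e1 : Q.map (MulAut.conj u).toMonoidHom = Spor.genLt (M.wl Spor.F22.nE_g) 2 := by
      refine eq_of_le_of_card_ge ?_ (by rw [Spor.FL.card_map_conj, hQ, Spor.F22.nE_card])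
      rintro _ ⟨a, ha, rfl⟩
      exact hu a ha
    have e2 : B.map (MulAut.conj u).toMonoidHom ≤ Spor.genLt (M.wl Spor.F22.nE_g) 2 := by
      rw [← Spor.F22.nE_cen M hM, ← e1]
      rintro _ ⟨b, hb, rfl⟩ _ ⟨a, ha, rfl⟩
      rw [← map_mul, ← map_mul, odd_le_cen h1 hQB hb a ha]
    have e3 := card_le_of_le e2
    rw [Spor.FL.card_map_conj, Spor.F22.nE_card, h9] at e3
    omega
  · have : Fact (Nat.Prime 7) := ⟨by norm_num⟩
    obtain ⟨X, hXB, hX⟩ := odd_exists (p := 7) (n := 1) (by rwa [pow_one])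
    rw [pow_one] at hX
    obtain ⟨g, hg⟩ := Spor.FL.exists_eq_zpowers_conj (Spor.F22.c7_ord M) hM.card (by norm_num) hX
    have h4 := odd_le_cen h1 hXB
    rw [hg, Spor.FL.centralizer_zpowers, ← M.conj_wl] at h4
    have h5 := card_le_of_le h4
    rw [Spor.F22.c7_card _ (hM.conj g)] at h5
    omega

theorem odd_of_inj {G H : Type*} [Group G] [Group H] (M : Spor.F22.Mod G) (hM : Spor.F22.Good M) (f : H →* G)
    (hf : Function.Injective f) (B : Subgroup H)
    (h1 : IsMulCommutative B) (h3 : ¬ 3 ∣ Nat.card B) (h : 5 ∣ Nat.card B ∨ 7 ∣ Nat.card B) : Nat.card B < 128 := by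
  rw [← card_map_of_injective hf] at h3 h ⊢
  refine odd_fi22 M hM _ ⟨⟨?_⟩⟩ h3 h
  rintro ⟨_, a, ha, rfl⟩ ⟨_, b, hb, rfl⟩
  refine Subtype.ext ?_
  change f a * f b = f b * f a
  rw [← map_mul, ← map_mul, odd_le_cen h1 le_rfl hb a ha]

theorem odd_mod : ∃ M : Spor.F22.Mod Cfsg.Spor.Fi22, Spor.F22.Good M := by
  obtain ⟨M, h, -⟩ := Spor.F22.exists_mod0
  exact ⟨M, ⟨MulEquiv.refl _, h⟩⟩

theorem odd_o8 (B : Subgroup (Cfsg.Omega (ZMod 2) (Cfsg.quadFormPlus 4 (ZMod 2)))) (h1 : IsMulCommutative B)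
    (h3 : ¬ 3 ∣ Nat.card B) (h : 5 ∣ Nat.card B ∨ 7 ∣ Nat.card B) : Nat.card B < 128 := by
  obtain ⟨M, hM⟩ := odd_mod
  obtain ⟨e⟩ := Spor.F22.s8_equiv M hM
  exact odd_of_inj M hM ((Subgroup.subtype _).comp e.symm.toMonoidHom)
    ((Subgroup.subtype_injective _).comp e.symm.injective) B h1 h3 h

theorem odd_ka {G : Type*} [Group G] (M : Spor.F22.Mod G) (hM : Spor.F22.Good M) :
    Nat.card (Spor.genLt (M.wl Spor.F22.ka_g) 9) = 2903040 := by
  have := M.fin
  obtain ⟨N, hN, h4, h5, h6⟩ := Spor.F22A.exists_mod M hM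
  have hz := M.center_eq_bot
  have ea : M.x 3524 = M.x 0 := by simpa [Spor.evalW] using M.eq (v := [3524]) (w := [0]) (by decide +kernel)
  have e1 : N.w [3525, 3524] = N.x 3525 * MulAut.conj (M.x 0) := by simp [Spor.evalW, h6, ea]
  have f1 : N.wl Spor.F22A.ca_f 0 = _ := (N.eq (by decide +kernel)).trans e1
  have o1 : ∀ y : G, N.x 3525 * MulAut.conj y ∉ Inn G := fun y h => h4 (((Inn G).mul_mem_cancel_right ⟨y, rfl⟩).1 h)
  exact (Spor.FL.fix_eq_of_card hz (o1 _)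
    (e1 ▸ M.fix_of_comm N h6 Spor.F22.ka_hg (r := 9) (t := [3525, 3524]) (by decide +kernel))
    (f1 ▸ Spor.F22A.ca_card N hN) (Spor.F22.ka_ge M)).2

theorem odd_sp (B : Subgroup (Matrix.symplecticGroup (Fin 3) (ZMod 2))) (h1 : IsMulCommutative B)
    (h3 : ¬ 3 ∣ Nat.card B) (h : 5 ∣ Nat.card B ∨ 7 ∣ Nat.card B) : Nat.card B < 128 := by
  obtain ⟨M, hM⟩ := odd_mod
  obtain ⟨e⟩ := Spor.F22.ka_equiv M (odd_ka M hM)
  have hc := Spor.FL.card_psp62
  have : Finite (Matrix.symplecticGroup (Fin 3) (ZMod 2)) := Nat.finite_of_card_ne_zero (by rw [hc.2]; norm_num)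
  have hq : Function.Injective (QuotientGroup.mk' (center (Matrix.symplecticGroup (Fin 3) (ZMod 2)))) :=
    ((Nat.bijective_iff_surjective_and_card _).2 ⟨QuotientGroup.mk'_surjective _, hc.2.trans hc.1.symm⟩).1
  exact odd_of_inj M hM ((Subgroup.subtype _).comp (e.symm.toMonoidHom.comp ((MonoidHom.inr _ _).comp
    (QuotientGroup.mk' _)))) ((Subgroup.subtype_injective _).comp (e.symm.injective.comp
      ((Prod.mk_right_injective _).comp hq))) B h1 h3 h

end Cfsg.Agent.E84
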