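import Mathlib
import Cfsg.Agent.E84.Defs
import Cfsg.Agent.FV.Kac7
import Cfsg.Agent.FV.Form
import Cfsg.Agent.S2238
import Cfsg.Agent.Chev.SzLie
import Cfsg.Agent.FT.LiftRep

/-! `Sz(8)`: the partition gives a fixed vector on the adjoint module of `E₈(3)` -/

set_option autoImplicit false

namespace Cfsg.Agent.E84

open Cfsg.Agent.FT Cfsg.Agent.E83 Cfsg.Agent.Chev Cfsg.Agent.Chev.Sz Cfsg.Agent.Chev.Kac Cfsg.Lie
  Cfsg.Lie.ChevalleyDatum

namespace SzP

theorem fixDim_map {G n k K : Type*} [Group G] [Finite G] [Fintype n] [DecidableEq n] [Field k] [Field K]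
    (f : k →+* K) (σ : G →* Matrix n n k) (σ' : G →* Matrix n n K) (h : ∀ g, σ' g = (σ g).map f)
    (A : Subgroup G) (hA : (Nat.card A : k) ≠ 0) : fixDim (matRep σ') A = fixDim (matRep σ) A := by
  have := Fintype.ofFinite A
  rw [Nat.card_eq_fintype_card] at hA
  have hu := inv_mul_cancel₀ hA
  rw [fixDim_matRep σ A hu, fixDim_matRep σ' A (u := f (Fintype.card A : k)⁻¹)
    (by rw [← map_natCast f, ← map_mul, hu, map_one])]
  refine Eq.trans ?_ ((rank_map_eq_of_idempotent _ (avg_mul_avg σ A hu).2 f (RingHom.id k)).trans rfl)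
  congr 1
  ext i j
  simp [h, Matrix.sum_apply]

open Classical in
theorem part {G : Type*} [Group G] [Fintype G] (s : Finset (Subgroup G)) (ex : ∀ g, ∃ U ∈ s, g ∈ U)
    (un : ∀ U ∈ s, ∀ V ∈ s, ∀ g, g ≠ 1 → g ∈ U → g ∈ V → U = V) (f : G → ℂ) :
    ∑ g, f g = f 1 + ∑ U ∈ s, (∑ a : U, f a - f 1) := by
  have e : (Finset.univ : Finset G).erase 1 =
      s.biUnion fun U => (Finset.univ.filter (· ∈ U)).erase 1 := by
    ext g
    obtain ⟨U, hU, hg⟩ := ex g
    simp only [Finset.mem_erase, Finset.mem_univ, and_true, Finset.mem_biUnion, Finset.mem_filter, true_and]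
    exact ⟨fun h => ⟨U, hU, h, hg⟩, fun ⟨_, _, h, _⟩ => h⟩
  rw [← Finset.add_sum_erase _ _ (Finset.mem_univ 1), e, Finset.sum_biUnion]
  · congr 1
    refine Finset.sum_congr rfl fun U _ => ?_
    rw [Finset.sum_erase_eq_sub (by simp), Finset.sum_subtype (p := (· ∈ U)) _ (by simp)]
  · intro U hU V hV ne
    refine Finset.disjoint_left.2 fun g a b => ne ?_
    simp only [Finset.mem_erase, Finset.mem_filter, Finset.mem_univ, true_and] at a b
    exact un U hU V hV g a.1 a.2 b.2

theorem count {G : Type*} [Group G] [Finite G] {p m : ℕ} (hp : p.Prime) (hG : Nat.card G = p * m)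
    (hm : ¬ p ∣ m) (s : Finset (Subgroup G)) (hs : ∀ U ∈ s, Nat.card U = p) :
    ∃ n, s.card ≤ n ∧ n ∣ m ∧ n % p = 1 % p := by
  classical
  have := Fact.mk hp
  have ix : ∀ U : Subgroup G, Nat.card U = p → U.index = m := fun U h => by
    have := U.card_mul_index
    rw [h, hG] at this
    exact Nat.eq_of_mul_eq_mul_left hp.pos this
  have sy : ∀ U : Subgroup G, Nat.card U = p → ∃ P : Sylow p G, (P : Subgroup G) = U := fun U h =>
    ⟨(IsPGroup.of_card (n := 1) (by rw [h, pow_one])).toSylow (by rwa [ix U h]), rfl⟩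
  obtain ⟨U, hU⟩ := Sylow.exists_subgroup_card_pow_prime p (G := G) (n := 1) (by rw [pow_one, hG]; simp)
  rw [pow_one] at hU
  obtain ⟨P, rfl⟩ := sy U hU
  refine ⟨Nat.card (Sylow p G), ?_, ix _ hU ▸ P.card_dvd_index, card_sylow_modEq_one p G⟩
  have := Fintype.ofFinite (Sylow p G)
  rw [Nat.card_eq_fintype_card]
  refine (Finset.card_le_card fun U hU => ?_).trans
    (Finset.card_image_le (s := Finset.univ) (f := fun P : Sylow p G => (P : Subgroup G)))
  obtain ⟨P, rfl⟩ := sy U (hs U hU)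
  exact Finset.mem_image_of_mem _ (Finset.mem_univ _)

open Classical in
theorem main {G V : Type*} [Group G] [Finite G] [AddCommGroup V] [Module ℂ V] [FiniteDimensional ℂ V]
    (hG : Nat.card G = 29120) (s : Finset (Subgroup G)) (ex : ∀ g, ∃ U ∈ s, g ∈ U)
    (un : ∀ U ∈ s, ∀ V ∈ s, ∀ g, g ≠ 1 → g ∈ U → g ∈ V → U = V)
    (n2 : (s.filter fun U : Subgroup G => Nat.card U = 64).card ≤ 65) (σ : Representation ℂ G V)
    (dim : Module.finrank ℂ V = 248)
    (cd : ∀ U ∈ s, Nat.card U = 64 ∨ (Nat.card U = 5 ∧ 48 ≤ fixDim σ U) ∨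
      (Nat.card U = 7 ∧ 38 ≤ fixDim σ U) ∨ (Nat.card U = 13 ∧ 20 ≤ fixDim σ U)) : fixDim σ ⊤ ≠ 0 := by
  intro h0
  have := Fintype.ofFinite G
  have c1 : σ.character 1 = 248 := by rw [Representation.char_one, dim]; norm_num
  have sU : ∀ U : Subgroup G, ∑ a : U, (σ.character a - 3) = Nat.card U * fixDim σ U - 3 * Nat.card U :=
    fun U => by
      rw [Finset.sum_sub_distrib, sum_character_eq_card_mul_fixDim, Finset.sum_const, Finset.card_univ,
        ← Nat.card_eq_fintype_card, nsmul_eq_mul, mul_comm _ (3 : ℂ)]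
  have a := part s ex un fun g => σ.character g - 3
  have b := sU ⊤
  rw [← Finset.sum_subtype Finset.univ (by simp) fun g => σ.character g - 3, a, h0, Subgroup.card_top, hG,
    c1] at b
  simp only [sU] at b
  have b' : (245 : ℤ) + ∑ U ∈ s, ((Nat.card U * fixDim σ U - 3 * Nat.card U - 245 : ℤ)) = -87360 := by
    have : ((245 + ∑ U ∈ s, ((Nat.card U * fixDim σ U - 3 * Nat.card U - 245 : ℤ)) : ℤ) : ℂ) =
        ((-87360 : ℤ) : ℂ) := by
      push_cast
      norm_num at b ⊢
      exact b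
    exact_mod_cast this
  obtain ⟨n5, a5, ⟨k5, b5⟩, c5⟩ := count (p := 5) (m := 5824) (by norm_num) hG (by norm_num)
    (s.filter fun U : Subgroup G => Nat.card U = 5) fun U hU => (Finset.mem_filter.1 hU).2
  obtain ⟨n13, a13, ⟨k13, b13⟩, c13⟩ := count (p := 13) (m := 2240) (by norm_num) hG (by norm_num)
    (s.filter fun U : Subgroup G => Nat.card U = 13) fun U hU => (Finset.mem_filter.1 hU).2
  have d5 : n5 ≤ 1456 := by
    rcases k5 with _ | _ | _ | _ | k
    iterate 4 omega
    nlinarith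
  have d13 : n13 ≤ 1120 := by
    rcases k13 with _ | _ | k
    iterate 2 omega
    nlinarith
  have le : ∑ U ∈ s, (-(437 * if Nat.card U = 64 then 1 else 0) - (20 * if Nat.card U = 5 then 1 else 0) -
      (24 * if Nat.card U = 13 then 1 else 0) : ℤ) ≤
      ∑ U ∈ s, ((Nat.card U * fixDim σ U - 3 * Nat.card U - 245 : ℤ)) :=
    Finset.sum_le_sum fun U hU => by
      rcases cd U hU with h | ⟨h, k⟩ | ⟨h, k⟩ | ⟨h, k⟩ <;> rw [h] <;> norm_num <;> omega
  simp only [Finset.sum_sub_distrib, Finset.sum_neg_distrib, ← Finset.mul_sum, Finset.sum_boole] at le b'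
  omega

theorem fd_le {G : Type*} [Group G] [Finite G] (φ : G →* St) (inj : Function.Injective φ) {U : Subgroup G}
    {p c : ℕ} (hp : p.Prime) (hU : Nat.card U = p) (h : ∀ x : St, x ^ p = 1 → x ≠ 1 → c ≤ fd ⊤ (rho x)) :
    c ≤ fixDim (rho.comp φ) U := by
  have := Fact.mk hp
  obtain ⟨x, hx⟩ := (isCyclic_of_prime_card hU).exists_generator
  have o : orderOf x = p := by rw [orderOf_eq_card_of_forall_mem_zpowers hx, hU]
  refine (h (φ x) (by rw [← map_pow, ← Subgroup.coe_pow, ← o, pow_orderOf_eq_one]; simp) fun e => ?_).trans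
    (Submodule.finrank_mono fun v hv => mem_fixSub.2 fun a ha => ?_)
  · have : x = 1 := Subtype.ext (inj (by simpa using e))
    rw [this, orderOf_one] at o
    exact hp.one_lt.ne o
  · obtain ⟨k, hk⟩ := mem_powers_iff_mem_zpowers.2 (hx ⟨a, ha⟩)
    obtain rfl : x.1 ^ k = a := congrArg Subtype.val hk
    have e := mem_fx.1 hv.2
    rw [map_pow]
    exact (Module.End.pow_apply _ k v).trans (Function.iterate_fixed e k)

theorem ad3_eq (x : St) : ad3 x = ((chevE8.adjRep _).ρ x).map (algebraMap _ K3) := by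
  change Matrix.reindexAlgEquiv K3 K3 finSumFinEquiv
    ((chevE8.stProj K3 (chevE8.stMap _ x) : GL chevE8.Idx K3) : Matrix chevE8.Idx chevE8.Idx K3) = _
  rw [stProj_stMap]
  rfl

variable {F : Type*} [Field F] [SzF F 1]

theorem card_F : Nat.card F = 8 := SzF.card_eq (m := 1)

theorem card_part {U : Subgroup (Cfsg.Sz F 1)} (h : IsPart U) :
    (∃ P : Ov F 1, U = sylAt P) ∨ Nat.card U = 5 ∨ Nat.card U = 7 ∨ Nat.card U = 13 := by
  refine (isPart_iff.1 h).imp id fun h => ?_
  have := h.card_eq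
  rw [card_F (F := F)] at this
  omega

theorem hasFix : HasFix (Cfsg.Sz F 1) := by
  classical
  intro φ inj
  have hG : Nat.card (Cfsg.Sz F 1) = 29120 := by rw [card_Sz, card_F (F := F)]; rfl
  have : Finite (Cfsg.Sz F 1) := Nat.finite_of_card_ne_zero (by omega)
  obtain ⟨σ, hσ⟩ := exists_complex_lift_matrix (p := 3) (by rw [hG]; norm_num)
    ((chevE8.adjRep (ZMod 3)).ρ.comp φ)
  have eq : ∀ A, fixDim σ A = fixDim (rho.comp φ) A := fun A => by
    refine (hσ A).trans (fixDim_map (algebraMap _ K3) _ (ad3.comp φ) (fun g => ad3_eq _) A fun e => ?_).symm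
    have := ((ZMod.natCast_eq_zero_iff _ 3).1 e).trans A.card_subgroup_dvd_card
    rw [hG] at this
    norm_num at this
  let s : Finset (Subgroup (Cfsg.Sz F 1)) := (Set.toFinite {U | IsPart U}).toFinset
  have hs : ∀ U, U ∈ s ↔ IsPart U := fun U => Set.Finite.mem_toFinset _
  have := main hG s (fun g => (exists_isPart g).imp fun U h => ⟨(hs U).2 h.1, h.2⟩)
    (fun U hU V hV g h1 a b => ((hs U).1 hU).unique ((hs V).1 hV) a b h1) ?_ σ (by simp; rfl) fun U hU => ?_
  · rw [eq] at this
    by_contra hn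
    push Not at hn
    refine this (fixDim_eq_zero_iff.2 fun v hv => by_contra fun h0 => ?_)
    obtain ⟨x, hx⟩ := hn v h0
    exact hx (hv x trivial)
  · have c : Nat.card (Ov F 1) = 65 := by rw [card_ov, card_F (F := F)]; rfl
    have : Finite (Ov F 1) := Nat.finite_of_card_ne_zero (by omega)
    have := Fintype.ofFinite (Ov F 1)
    rw [← c, Nat.card_eq_fintype_card]
    refine (Finset.card_le_card fun U hU => ?_).trans
      (Finset.card_image_le (s := Finset.univ) (f := fun P : Ov F 1 => sylAt P))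
    obtain ⟨h1, h2⟩ := Finset.mem_filter.1 hU
    obtain ⟨P, rfl⟩ := (card_part ((hs U).1 h1)).resolve_right (by omega)
    exact Finset.mem_image_of_mem _ (Finset.mem_univ _)
  · rw [eq]
    rcases card_part ((hs U).1 hU) with ⟨P, rfl⟩ | h | h | h
    · exact .inl (by rw [card_sylAt, card_F (F := F)]; rfl)
    · refine .inr (.inl ⟨h, fd_le φ inj (by norm_num) h fun x a b => ?_⟩)
      have := E83.kac5 a b
      simp only [List.mem_cons, List.not_mem_nil, or_false] at this
      omega
    · refine .inr (.inr (.inl ⟨h, fd_le φ inj (by norm_num) h fun x a b => ?_⟩))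
      have := FV.kac7L a b
      simp only [List.mem_cons, List.not_mem_nil, or_false] at this
      omega
    · refine .inr (.inr (.inr ⟨h, fd_le φ inj (by norm_num) h fun x a b => ?_⟩))
      have := FV.kac13L a b
      simp only [List.mem_cons, List.not_mem_nil, or_false] at this
      omega

theorem smallAb : SmallAb (Cfsg.Sz F 1) := by
  intro B hB _
  have hG : Nat.card (Cfsg.Sz F 1) = 29120 := by rw [card_Sz, card_F (F := F)]; rfl
  have : Finite (Cfsg.Sz F 1) := Nat.finite_of_card_ne_zero (by omega)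
  obtain ⟨U, hU, le⟩ := exists_isPart_ge_of_isNilpotent (K := B) (by
    let _ : CommGroup B := { (inferInstance : Group B) with mul_comm := hB.1.1 }
    infer_instance)
  have := Subgroup.card_le_of_le le
  rcases card_part hU with ⟨P, rfl⟩ | h
  · rw [card_sylAt, card_F (F := F)] at this
    omega
  · omega

end SzP

theorem hasFix_sz {F : Type*} [Field F] [Fintype F] (h : Fintype.card F = 8) : HasFix (Cfsg.Lie.Sz F 4) := by
  have := SzF.of_card (m := 1) le_rfl h
  intro φ inj
  obtain ⟨v, h0, hv⟩ := SzP.hasFix (φ.comp (szEquiv F 1).toMonoidHom) (inj.comp (szEquiv F 1).injective)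
  exact ⟨v, h0, fun x => by simpa using hv ((szEquiv F 1).symm x)⟩

theorem smallAb_sz {F : Type*} [Field F] [Fintype F] (h : Fintype.card F = 8) : SmallAb (Cfsg.Lie.Sz F 4) := by
  have := SzF.of_card (m := 1) le_rfl h
  intro B hB h3
  have e := Subgroup.card_map_of_injective (K := B) (f := (szEquiv F 1).symm.toMonoidHom)
    (szEquiv F 1).symm.injective
  rw [← e] at h3 ⊢
  exact SzP.smallAb _ inferInstance h3

end Cfsg.Agent.E84
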