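import Mathlib
import Cfsg.Agent.E84.FixO
import Cfsg.Agent.E84.FixS
import Cfsg.Agent.E84.Odd
import Cfsg.Agent.Spor.FL.PC

/-!
# Abelian `2`-subgroups of `Ω₈⁺(2)` and `Sp₆(2)`
-/

set_option autoImplicit false
set_option linter.unusedSectionVars false
set_option maxRecDepth 100000

namespace Cfsg.Agent.E84

open Cfsg.Agent.Spor Cfsg.Agent.Spor.NM Cfsg.Agent.Spor.FL Cfsg.Agent.E83

/-- the search for large commuting configurations -/
noncomputable def go (CM FM : ℕ → ℕ) (f : ℕ) : ℕ → List ℕ → List ℕ → Bool :=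
  Nat.rec (fun _ _ _ => false) (fun _ ih n C F => bor (blt (Nat.mul (Nat.add n C.length) F.length) 128)
    (List.casesOn C false fun i C' => force (CM i) fun c => force (FM i) fun d => force (Nat.succ n) fun n' =>
      band (fL (C'.filter (Nat.testBit c)) fun C₁ => fL (F.filter (Nat.testBit d)) fun F₁ => ih n' C₁ F₁) (ih n C' F))) f

theorem go_spec {CM FM : ℕ → ℕ} {f n : ℕ} {C F : List ℕ} (h : go CM FM f n C F = true) {I J : Finset ℕ}
    (h1 : ∀ i ∈ I, i ∈ C) (h2 : ∀ j ∈ J, j ∈ F) (h3 : ∀ i ∈ I, ∀ k ∈ I, (CM i).testBit k = true)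
    (h4 : ∀ i ∈ I, ∀ j ∈ J, (FM i).testBit j = true) : (n + I.card) * J.card < 128 := by
  induction f generalizing n C F I with
  | zero => exact absurd h (by simp [go])
  | succ f ih =>
    rcases (bor_iff _ _).1 h with h | h
    · exact lt_of_le_of_lt (Nat.mul_le_mul (Nat.add_le_add_left ((Finset.card_le_card fun i hi =>
        List.mem_toFinset.2 (h1 i hi)).trans (List.toFinset_card_le _)) _) ((Finset.card_le_card fun i hi =>
        List.mem_toFinset.2 (h2 i hi)).trans (List.toFinset_card_le _))) ((blt_iff _ _).1 h)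
    · cases C with
      | nil => exact absurd h (by simp)
      | cons i C =>
        replace h : go CM FM f (n + 1) (C.filter (CM i).testBit) (F.filter (FM i).testBit) = true ∧
            go CM FM f n C F = true :=
          ((band_iff _ _).1 h).imp_left fun h => (fL_eq _ _).symm.trans ((fL_eq _ _).symm.trans h)
        by_cases hi : i ∈ I
        · have := ih h.1 (I := I.erase i) (fun k hk => List.mem_filter.2 ⟨(List.mem_cons.1 (h1 k
            (Finset.mem_of_mem_erase hk))).resolve_left (Finset.ne_of_mem_erase hk), h3 i hi k (Finset.mem_of_mem_erase hk)⟩)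
            (fun j hj => List.mem_filter.2 ⟨h2 j hj, h4 i hi j hj⟩)
            (fun a ha b hb => h3 a (Finset.mem_of_mem_erase ha) b (Finset.mem_of_mem_erase hb))
            fun a ha => h4 a (Finset.mem_of_mem_erase ha)
          rwa [add_assoc, add_comm 1, Finset.card_erase_add_one hi] at this
        · exact ih h.2 (fun k hk => (List.mem_cons.1 (h1 k hk)).resolve_left fun e => hi (e ▸ hk)) h2 h3 h4

variable (mul : ℕ → ℕ → ℕ) (one : ℕ) (g : ℕ → ℕ)

/-- the code of `pcG` -/
noncomputable def pcN (f : ℕ) : ℕ → ℕ → ℕ :=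
  Nat.rec (fun _ _ => one) (fun _ ih i c => force (Nat.succ i) fun i' => force (Nat.div c 2) fun c' =>
    force (ih i' c') fun x => Bool.rec (mul x (g i)) x (Nat.beq (Nat.mod c 2) 0)) f

/-- all the checks -/
noncomputable def twoOK (r q P : ℕ) (pw : ℕ → ℕ) (cj : ℕ → ℕ → ℕ) (t a CM FM : ℕ → ℕ) (C : List ℕ) : Bool :=
  band (allLt (6 + r) fun i => band (Nat.beq (mul (g i) (g i)) (pcN mul one g i 0 (pw i))) (allLt (6 + r) fun j =>
    bor (Nat.ble j i) (Nat.beq (mul (g j) (g i)) (force (pcN mul one g (i + 1) 0 (cj i j)) fun x => mul x (g j))))) <|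
  band (allLt 64 fun j => force (a j) fun x => band (Nat.beq x (pcN mul one g 6 0 j)) <| band (Nat.beq (mul x P) P) <|
    allLt 64 fun l => force (a l) fun y => band (bor (Nat.beq j l) (!Nat.beq x y)) (Nat.beq (mul x y) (mul y x))) <|
  band (allLt q fun i => force (t i) fun x => force (mul x P) fun x' => band (Nat.beq x (pcN mul one g r 6 i)) <|
    band (Nat.beq (mul P x') x') <| band (bor (Nat.beq i 0) (E83.anyL C (Nat.beq i))) <|
    band (allLt q fun k => force (t k) fun y => force (mul y P) fun y' => band (bor (Nat.beq i k) (!Nat.beq x' y'))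
      (bor ((CM i).testBit k) (!Nat.beq (mul x y') (mul y x'))))
      (allLt 64 fun j => force (a j) fun y => bor ((FM i).testBit j) (!Nat.beq (mul x y) (mul y x))))
    (fL (List.range 64) fun F => go CM FM 70 1 C F)

variable {mul one g} {n : ℕ} {ent : ℕ → Bool} {ι X : Type*} [Fintype ι] [DecidableEq ι] [Group X]
  {ε : ι ≃ Fin n} {ρ : X →* Matrix ι ι (ZMod 2)}
  (S : MatSpec (ZMod 2) n 1 (· < 2) (fun x => (x : ZMod 2)) mul one ent) (hρ : Function.Injective ρ)

include S hρ

theorem pcN_spec {k : ℕ} (hg : ∀ i < k, Val ε ρ (g i)) (f i c : ℕ) (h : i + f ≤ k) :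
    Val ε ρ (pcN mul one g f i c) ∧ el ε ρ (pcN mul one g f i c) = pcG (fun i => el ε ρ (g i)) 2 f i c := by
  induction f generalizing i c with
  | zero => exact ⟨val_one S, el_one S hρ⟩
  | succ f ih =>
    obtain ⟨h1, h2⟩ := ih (i + 1) (c / 2) (by omega)
    have h3 := hg i (by omega)
    rw [pcG, ← h2, show pcN mul one g (f + 1) i c = Bool.rec (mul (pcN mul one g f (i + 1) (c / 2)) (g i))
      (pcN mul one g f (i + 1) (c / 2)) (Nat.beq (c % 2) 0) from rfl]
    rcases Nat.mod_two_eq_zero_or_one c with h | h <;> rw [h]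
    · exact ⟨h1, by rw [pow_zero, mul_one]; rfl⟩
    · exact ⟨h1.prod S h3, by rw [pow_one]; exact h1.el_mul S hρ h3⟩

theorem two_of [Finite X] {r q P : ℕ} {pw : ℕ → ℕ} {cj : ℕ → ℕ → ℕ} {t a CM FM : ℕ → ℕ} {C : List ℕ}
    (hg : ∀ i < 6 + r, Val ε ρ (g i)) (hP : ent P = true) (hq : q = 2 ^ r)
    (h : twoOK mul one g r q P pw cj t a CM FM C = true) (hc : (Nat.card X).factorization 2 = 6 + r)
    (B : Subgroup X) (h1 : IsMulCommutative B) (h2 : IsPGroup 2 B) : Nat.card B < 128 := by
  classical
  simp only [twoOK, band_iff, bor_iff, allLt_iff, force_eq, nbeq_iff, fL_eq, E83.anyL_iff, exists_eq_right',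
    Bool.not_eq_true', Nat.ble_eq, ← Bool.not_eq_true] at h
  obtain ⟨k1, k2, k3, k4⟩ := h
  have hP := S.of_ent P hP
  have sp := pcN_spec S hρ hg
  set γ := fun i => el ε ρ (g i)
  have hpc : IsPC γ 2 (6 + r) := ⟨fun i hi => by
      rw [sq, ← (hg i hi).el_mul S hρ (hg i hi), (k1 i hi).1, (sp i 0 _ (by omega)).2]
      simpa using pcG_mem (g := γ) i 0 _,
    fun i j hij hj => by
      have := sp (i + 1) 0 (cj i j) (by omega)
      rw [← (hg j hj).el_mul S hρ (hg i (by omega)), ((k1 i (by omega)).2 j hj).resolve_left (by omega),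
        this.1.el_mul S hρ (hg j hj), mul_inv_cancel_right, this.2]
      simpa using pcG_mem (g := γ) (i + 1) 0 _⟩
  have va : ∀ j < 64, Val ε ρ (a j) ∧ el ε ρ (a j) = pcG γ 2 6 0 j := fun j hj => (k2 j hj).1 ▸ sp 6 0 j (by omega)
  have vt : ∀ i < q, Val ε ρ (t i) ∧ el ε ρ (t i) = pcG γ 2 r 6 i := fun i hi => (k3 i hi).1 ▸ sp r 6 i le_rfl
  have hA : ∀ x ∈ genLt γ 6, ∃ j < 64, x = el ε ρ (a j) := fun x hx => by
    obtain ⟨j, hj, e⟩ := (hpc.mono (Nat.le_add_right _ _)).exists_code two_pos hx
    exact ⟨j, hj, e.trans (va j hj).2.symm⟩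
  have hA' : ∀ j < 64, el ε ρ (a j) ∈ genLt γ 6 := fun j hj => (va j hj).2 ▸ pcG_mem 6 0 j
  have hU : ∀ x ∈ genLt γ (6 + r), ∃ i < q, ∃ j < 64, x = el ε ρ (t i) * el ε ρ (a j) := fun x hx => by
    obtain ⟨c, hc, e⟩ := hpc.exists_code two_pos hx
    obtain ⟨j, hj, e'⟩ := hA _ (pcG_mem 6 0 c)
    have : c / 2 ^ 6 < q := Nat.div_lt_of_lt_mul (by rw [hq, ← pow_add]; exact hc)
    exact ⟨_, this, j, hj, by rw [e, pcG_add, e', (vt _ this).2]⟩
  obtain ⟨D, hD⟩ : ∃ D, D = dec ε 1 (fun x => (x : ZMod 2)) := ⟨_, rfl⟩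
  have dm : ∀ {a b}, Ent 1 (n * n) (· < 2) a → Ent 1 (n * n) (· < 2) b → D (mul a b) = D a * D b := hD ▸ S.dec_mul ε
  have di : ∀ {a b}, Ent 1 (n * n) (· < 2) a → Ent 1 (n * n) (· < 2) b → D a = D b → a = b := hD ▸ S.dec_inj ε
  have ds : ∀ {a}, Val ε ρ a → ρ (el ε ρ a) = D a := hD ▸ Val.spec
  have aP : ∀ j < 64, ρ (el ε ρ (a j)) * D P = D P := fun j hj => by
    rw [ds (va j hj).1, ← dm (va j hj).1.1 hP, (k2 j hj).2.1]
  have tP : ∀ i < q, ρ (el ε ρ (t i)) * D P = D (mul (t i) P) := fun i hi => by
    rw [ds (vt i hi).1, dm (vt i hi).1.1 hP]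
  have eP : ∀ i < q, Ent 1 (n * n) (· < 2) (mul (t i) P) := fun i hi => S.ent_mul _ _ (vt i hi).1.1 hP
  have hcard : 2 ^ (6 + r) ≤ Nat.card (genLt γ (6 + r)) := by
    have := Nat.card_le_card_of_injective (fun p : Fin q × Fin 64 => (⟨el ε ρ (t p.1) * el ε ρ (a p.2), mul_mem
      ((vt _ p.1.2).2 ▸ pcG_mem r 6 _) (genLt_mono γ (Nat.le_add_right _ _) (hA' _ p.2.2))⟩ : genLt γ (6 + r)))
      fun p p' e => by
        have e1 := congrArg Subtype.val e
        have e2 := congrArg (ρ · * D P) e1
        simp only [map_mul, mul_assoc, aP _ p.2.2, aP _ p'.2.2, tP _ p.1.2, tP _ p'.1.2] at e2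
        have e3 : p.1 = p'.1 := Fin.ext (((k3 _ p.1.2).2.2.2.1 _ p'.1.2).1.resolve_right
          (· (di (eP _ p.1.2) (eP _ p'.1.2) e2)))
        simp only [e3, mul_right_inj] at e1
        exact Prod.ext e3 (Fin.ext (((k2 _ p.2.2).2.2 _ p'.2.2).1.resolve_right
          (· ((va _ p.2.2).1.inj S (va _ p'.2.2).1 e1))))
    rwa [Nat.card_prod, Nat.card_fin, Nat.card_fin, hq, mul_comm, show 64 = 2 ^ 6 from rfl, ← pow_add] at this
  obtain ⟨Q, hQ⟩ := h2.exists_le_sylow
  obtain ⟨x, hx⟩ := MulAction.exists_smul_eq X Q (Sylow.ofCard (p := 2) (genLt γ (6 + r))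
    ((hpc.card_eq two_pos hcard le_rfl).trans (by rw [hc])))
  rw [← Subgroup.card_map_of_injective (K := B) (f := (MulAut.conj x : X →* X)) (MulAut.conj x).injective]
  have hB : B.map (MulAut.conj x : X →* X) ≤ genLt γ (6 + r) :=
    (Subgroup.map_mono hQ).trans (congrArg Sylow.toSubgroup hx).le
  have hm : ∀ y ∈ B.map (MulAut.conj x : X →* X), ∀ z ∈ B.map (MulAut.conj x : X →* X), y * z = z * y := by
    rintro _ ⟨y, hy, rfl⟩ _ ⟨z, hz, rfl⟩
    rw [← map_mul, ← map_mul, setLike_mul_comm (s := B) hy hz]
  generalize B.map (MulAut.conj x : X →* X) = E at hB hm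
  let I := (Finset.range q).filter fun i => ∃ j < 64, el ε ρ (t i) * el ε ρ (a j) ∈ E
  let J := (Finset.range 64).filter fun j => el ε ρ (a j) ∈ E
  have hI : ∀ i ∈ I.erase 0, i < q ∧ ∃ j < 64, el ε ρ (t i) * el ε ρ (a j) ∈ E := fun i hi => by
    simpa [I] using Finset.mem_of_mem_erase hi
  have h5 := go_spec k4 (I := I.erase 0) (J := J)
    (fun i hi => (k3 i (hI i hi).1).2.2.1.resolve_left (Finset.ne_of_mem_erase hi))
    (fun j hj => List.mem_range.2 (Finset.mem_range.1 (Finset.mem_filter.1 hj).1))
    (fun i hi k hk => by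
      obtain ⟨a1, j, a2, a3⟩ := hI i hi
      obtain ⟨b1, l, b2, b3⟩ := hI k hk
      refine ((k3 i a1).2.2.2.1 k b1).2.resolve_right (· (di (S.ent_mul _ _ (vt i a1).1.1 (eP k b1))
        (S.ent_mul _ _ (vt k b1).1.1 (eP i a1)) ?_))
      have e : ∀ {i k j l}, i < q → k < q → j < 64 → l < 64 → ρ (el ε ρ (t i) * el ε ρ (a j) * (el ε ρ (t k) *
          el ε ρ (a l))) * D P = D (mul (t i) (mul (t k) P)) := fun {i k j l} a1 b1 a2 b2 => by
        simp only [map_mul, mul_assoc]
        rw [aP l b2, tP k b1, ← (k3 k b1).2.1, dm hP (eP k b1), ← mul_assoc (ρ (el ε ρ (a j))), aP j a2,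
          ← dm hP (eP k b1), (k3 k b1).2.1, ds (vt i a1).1, dm (vt i a1).1.1 (eP k b1)]
      exact (e a1 b1 a2 b2).symm.trans (hm _ a3 _ b3 ▸ e b1 a1 b2 a2))
    fun i hi l hl => by
      obtain ⟨a1, j, a2, a3⟩ := hI i hi
      have b2 := Finset.mem_range.1 (Finset.mem_filter.1 hl).1
      have vi := (vt i a1).1
      have vl := (va l b2).1
      refine ((k3 i a1).2.2.2.2 l b2).resolve_right (· ((vi.prod S vl).inj S (vl.prod S vi) ?_))
      have e := hm _ a3 _ (Finset.mem_filter.1 hl).2
      rw [mul_assoc, ← (va j a2).1.el_mul S hρ vl, ((k2 j a2).2.2 l b2).2, vl.el_mul S hρ (va j a2).1, ← mul_assoc,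
        ← mul_assoc, mul_left_inj] at e
      rw [vi.el_mul S hρ vl, vl.el_mul S hρ vi, e]
  choose! σ hσ using fun i (hi : i ∈ I) => (Finset.mem_filter.1 hi).2
  have h6 : (E : Set X) ⊆ (I ×ˢ J).image fun p => el ε ρ (t p.1) * el ε ρ (a (σ p.1)) * el ε ρ (a p.2) := fun y hy => by
    obtain ⟨i, hi, j, hj, rfl⟩ := hU y (hB hy)
    have a1 : i ∈ I := Finset.mem_filter.2 ⟨Finset.mem_range.2 hi, j, hj, hy⟩
    obtain ⟨l, hl, e⟩ := hA _ (mul_mem (inv_mem (hA' _ (hσ i a1).1)) (hA' j hj))
    refine Finset.mem_coe.2 (Finset.mem_image.2 ⟨(i, l), Finset.mem_product.2 ⟨a1, Finset.mem_filter.2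
      ⟨Finset.mem_range.2 hl, ?_⟩⟩, by simp only [← e]; group⟩)
    have := mul_mem (inv_mem (hσ i a1).2) hy
    rwa [mul_inv_rev, mul_assoc, inv_mul_cancel_left, e] at this
  have h7 := Set.ncard_le_ncard h6 (Finset.finite_toSet _)
  rw [Set.ncard_coe_finset] at h7
  have h8 := Finset.pred_card_le_card_erase (s := I) (a := 0)
  exact (h7.trans (Finset.card_image_le.trans ((Finset.card_product _ _).le.trans
    (Nat.mul_le_mul_right _ (by omega))))).trans_lt h5

omit S hρ

/-- polycyclic generators -/
def g_sp : ℕ → ℕ := fun i => getP 36 0xfffffffff 0xc10204181818204083a10204085810224081810214c8181020c0a9810204481810204299810204089 i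

theorem ok_sp : twoOK Rec.B6.mul 0x810204081 g_sp 3 8 0x4081
    (fun i => getP 12 0xfff 0x0 i)
    (fun i j => getP 12 0xfff 0xc000000000000000000000000000000000004004000000000000000000000000000000003002002800000000000000000000000000001001b01301000000000000000000000000000b008008008008000000000000000000000004006004004004004000000000000000000002002002002002002002000000000000000001001001001001001001001000 (Nat.add (Nat.mul 12 i) j))
    (fun i => getP 36 0xfffffffff 0xc18204187e18204183e10204185c10204181a18204087818204083a10204085810204081 i)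
    (fun i => getP 36 0xfffffffff 0x81023cab981023cab181023c8a181023c8a981023ceb981023ceb181023cca181023cca9810234a91810234a99810234889810234881810234e91810234e99810234c89810234c8181022c6b981022c6b181022c4a181022c4a981022c2b981022c2b181022c0a181022c0a981022469181022469981022448981022448181022429181022429981022408981022408181021cab981021cab181021c8a181021c8a981021ceb981021ceb181021cca181021cca9810214a91810214a99810214889810214881810214e91810214e99810214c89810214c8181020c6b981020c6b181020c4a181020c4a981020c2b981020c2b181020c0a181020c0a9810204691810204699810204489810204481810204291810204299810204089810204081 i)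
    (fun i => getP 64 0xffffffffffffffff 0xc300000000000000c300000000000000330000000000000033000000000000000f000000000000000f00000000000000ff00000000000000ff i)
    (fun i => getP 64 0xffffffffffffffff 0xf000000000000000f00000000ff0000ff0000000000ff00ff0f0f000000000f0f00000f0f00000f0f000000000000ffffffffffffffffffff i)
    [7, 6, 5, 4, 3, 2, 1] = true := by
  decide +kernel

theorem two_sp (B : Subgroup (Matrix.symplecticGroup (Fin 3) (ZMod 2))) (h1 : IsMulCommutative B) (h2 : IsPGroup 2 B) :
    Nat.card B < 128 := by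
  have : Finite (Matrix.symplecticGroup (Fin 3) (ZMod 2)) := Nat.finite_of_card_ne_zero (by rw [card_psp62.2]; norm_num)
  refine two_of (n := 6) (ε := epsPlus 3) (ρ := (Matrix.symplecticGroup (Fin 3) (ZMod 2)).subtype)
    Rec.B6.spec Subtype.val_injective (fun i hi => ?_) (by decide) rfl ok_sp ?_ B h1 h2
  · obtain ⟨w, -, e⟩ := (by decide +kernel : ∀ i < 6 + 3, ∃ w ∈ [0x5, 0x4141, 0x4, 0x32123212, 0x3232, 0x3, 0x2121, 0x1, 0x2],
      g_sp i = evw Rec.B6.mul 0x810204081 FS.gens 64 w) i hi
    exact e ▸ val_evw Rec.B6.spec FS.hgens _ _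
  · rw [card_psp62.2]; decide +kernel

theorem smallAb_sp : SmallAb (Matrix.symplecticGroup (Fin 3) (ZMod 2)) := fun B h1 h3 => by
  by_cases h : 5 ∣ Nat.card B ∨ 7 ∣ Nat.card B
  · exact odd_sp B h1 h3 h
  have h4 := B.card_subgroup_dvd_card
  rw [card_psp62.2] at h4
  have h5 : (Nat.card B).Coprime (3 * 5 * 7) := (((Nat.prime_three.coprime_iff_not_dvd.2 h3).mul_left
    (Nat.prime_five.coprime_iff_not_dvd.2 fun e => h (.inl e))).mul_left
      (Nat.prime_seven.coprime_iff_not_dvd.2 fun e => h (.inr e))).symm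
  obtain ⟨k, -, e⟩ := (Nat.dvd_prime_pow Nat.prime_two).1 ((h5.pow_right 5).dvd_of_dvd_mul_right (m := 2 ^ 12)
    (h4.trans (by norm_num)))
  exact two_sp B h1 (IsPGroup.of_card e)

/-- polycyclic generators -/
def g_o8 : ℕ → ℕ := fun i => getP 64 0xffffffffffffffff 0xc0402010080c02018060201008040601a040201008040a01804030100804020380502010080402059040201008040209804020104884020180402010280482018040201018040281804020100824420180402010081402418040201008041221 i

theorem ok_o8 : twoOK Rec.B8.mul 0x8040201008040201 g_o8 6 64 0x8040201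
    (fun i => getP 12 0xfff 0x0 i)
    (fun i j => getP 12 0xfff 0x6000000000000000000000000000000000002002000000000000000000000000000000001001801400000000000000000000000000000c008008008000000000000000000000000004004004004004000000000000000000000002003002402002802200000000000000000001401001001801001101000000000000000000a008009008008008008008000000000000004004004006005004004004004000000000002003002002002002002002002002000000001001001001001001001001001001001000 (Nat.add (Nat.mul 12 i) j))
    (fun i => getP 64 0xffffffffffffffff 0xc0603010080c0e0fd0603010080c0e07d0703010080c0e0bc0703010080c0e03c0702010080c0e0dd0702010080c0e05d0602010080c0e09c0602010080c0e01f0603010080c060fe0603010080c0607e0703010080c060bf0703010080c0603e0702010080c060df0702010080c0605f0602010080c0609e0602010080c0601f0503010080c0a0fe0503010080c0a07e0403010080c0a0bf0403010080c0a03e0502010080c0a0df0502010080c0a05f0402010080c0a09e0402010080c0a01c0503010080c020fd0503010080c0207d0403010080c020bc0403010080c0203c0502010080c020dd0502010080c0205d0402010080c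0209c0402010080c0201a060301008040e0fb060301008040e07a070301008040e0bb070301008040e03b070201008040e0da070201008040e05b060201008040e09a060201008040e01906030100804060f8060301008040607907030100804060b8070301008040603907020100804060d807020100804060590602010080406098060201008040601a050301008040a0fb050301008040a07a040301008040a0bb040301008040a03b050201008040a0da050201008040a05b040201008040a09a040201008040a01905030100804020f8050301008040207904030100804020b8040301008040203905020100804020d805020100804020590402010080402098040201008040201 i)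
    (fun i => getP 64 0xffffffffffffffff 0x8040201078b4d2e18040201078b4c2c18040201078a4d2a18040201078a4c28180402010789492e180402010789482c180402010788492a180402010788482818040201068b4d2618040201068b4c2418040201068a4d2218040201068a4c20180402010689492618040201068948241804020106884922180402010688482018040201058b452e18040201058b442c18040201058a452a18040201058a4428180402010589412e180402010589402c180402010588412a180402010588402818040201048b452618040201048b442418040201048a452218040201048a442018040201048941261804020104894024180402010488412218040201048840201804020103834d2e1804020103834c2c1804020103824d2a1804020103824c28180402010381492e180402010381482c180402010380492a18040201038048281804020102834d261804020102834c241804020102824d221804020102824c201804020102814926180402010281482418040201028049221804020102804820180402010183452e180402010183442c180402010182452a1804020101824428180402010181412e180402010181402c180402010180412a1804020101804028180402010083452618040201008344241804020100824522180402010082442018040201008141261804020100814024180402010080412218040201008040201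 i)
    (fun i => getP 64 0xffffffffffffffff 0xc030000000000c03c030000000000c0330c0000000000c0330c0000000000c030c0c0000000003030c0c0000000003030303000000000303030300000000030330c0000000000c0330c0000000000c03c030000000000c03c030000000000c030c0c0000000003030c0c000000000303030300000000030303030000000003030000c33c00003cc30000c33c00003cc300003cc300003cc300003cc300003cc300003c3c0000c3c300003c3c0000c3c30000c3c30000c3c30000c3c30000c3c3000033cc0000cc33000033cc0000cc330000cc330000cc330000cc330000cc330000cccc000033330000cccc000033330000333300003333000033330000333300000000f000000f00000000f000000f00000000f000000f00000000f000000f000000000f0f0f0f000000000f0f0f0f000000000f0f0f0f000000000f0f0f0f0000000000f0000f0000000000f0000f0000000000f0000f0000000000f0000f000000000f0f0f0f000000000f0f0f0f000000000f0f0f0f000000000f0f0f0f00000ff00000f00f00000ff00000f00f0000f00f0000f00f0000f00f0000f00ff0f0f0f00f0f0f0ff0f0f0f00f0f0f0f0f0f0f0f0f0f0f0f0f0f0f0f0f0f0f0f0000ff00000000ff0000ff00000000ff000000ff000000ff000000ff000000ff00000000ffffffff00000000ffffffffffffffffffffffffffffffffffffffff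 i)
    (fun i => getP 64 0xffffffffffffffff 0xc003000000000000c0030000000000003003000000000000300300000000000000c300000000000000c30000000000000033000000000000003300000000000030030000000000003003000000000000c003000000000000c00300000000000000c300000000000000c3000000000000003300000000000000330ff000000000f00ff00f00000000f00f000000000000000f000000000000000f000000000000000f000000000000000fff000000000000ff00ff0000000000ff000000000000000f000000000000000f00000ff00000f00f0000f00f0000f00f000000000000000f000000000000000f0000ff00000000ff000000ff000000ff0000000000000c030000000000000c030000000000000c030000000000000c0300000000c33c3cc3000000003cc33cc30000000033cccc3300000000cc33cc330000000000000303000000000000030300000000000003030000000000000303000000003c3cc3c300000000c3c3c3c300000000cccc33330000000033333333000000000000000f000000000000000f000000000000000f000000000000000f000000000ff0f00f00000000f00ff00f00000000ff0000ff0000000000ff00fff0f0000000000f0f0f0f000000000f0f0000f0f000000f0f00000f0f00000f0f00000000f0f00f0f000000000f0f0f0f000000000000ffffffffffffffffffff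 i)
    [63, 62, 61, 60, 59, 58, 57, 56, 55, 54, 53, 52, 51, 50, 49, 48, 47, 46, 45, 44, 43, 42, 41, 40, 39, 38, 37, 36, 35,
    34, 33, 32, 31, 30, 29, 28, 27, 26, 25, 24, 23, 22, 21, 20, 19, 18, 17, 16, 15, 14, 13, 12, 11, 10, 9, 8, 7, 6, 5, 4,
    3, 2, 1] = true := by
  decide +kernel

theorem two_o8 (B : Subgroup (Cfsg.Omega (ZMod 2) (Cfsg.quadFormPlus 4 (ZMod 2)))) (h1 : IsMulCommutative B) (h2 : IsPGroup 2 B) :
    Nat.card B < 128 := by
  have : Finite (Cfsg.Omega (ZMod 2) (Cfsg.quadFormPlus 4 (ZMod 2))) := Nat.finite_of_card_ne_zero (by rw [card_o8]; norm_num)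
  refine two_of (n := 8) (ε := epsPlus 4) (ρ := (omRep (Cfsg.quadFormPlus 4 (ZMod 2))))
    Rec.B8.spec (omRep_inj _) (fun i hi => ?_) (by decide) rfl ok_o8 ?_ B h1 h2
  · obtain ⟨w, -, e⟩ := (by decide +kernel : ∀ i < 6 + 6, ∃ w ∈ [0x4324312431243121, 0x2324232123242321, 0x42324232, 0x24212421, 0x4242, 0x4, 0x23212321, 0x2121, 0x1, 0x3232, 0x2,
      0x3],
      g_o8 i = evw Rec.B8.mul 0x8040201008040201 FO.gens 64 w) i hi
    exact e ▸ val_evw Rec.B8.spec FO.hgens _ _
  · rw [card_o8]; decide +kernel

theorem smallAb_o8 : SmallAb (Cfsg.Omega (ZMod 2) (Cfsg.quadFormPlus 4 (ZMod 2))) := fun B h1 h3 => by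
  by_cases h : 5 ∣ Nat.card B ∨ 7 ∣ Nat.card B
  · exact odd_o8 B h1 h3 h
  have h4 := B.card_subgroup_dvd_card
  rw [card_o8] at h4
  have h5 : (Nat.card B).Coprime (3 * 5 * 7) := (((Nat.prime_three.coprime_iff_not_dvd.2 h3).mul_left
    (Nat.prime_five.coprime_iff_not_dvd.2 fun e => h (.inl e))).mul_left
      (Nat.prime_seven.coprime_iff_not_dvd.2 fun e => h (.inr e))).symm
  obtain ⟨k, -, e⟩ := (Nat.dvd_prime_pow Nat.prime_two).1 ((h5.pow_right 5).dvd_of_dvd_mul_right (m := 2 ^ 12)
    (h4.trans (by norm_num)))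
  exact two_o8 B h1 (IsPGroup.of_card e)

end Cfsg.Agent.E84
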